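import Cfsg.Agent.Lib.SpEven.Find
import Cfsg.Agent.Lib.SpClassNum.Split

/-!
Orthogonal decompositions into normal blocks, their block sizes, and their completeness.
-/

set_option autoImplicit false
set_option linter.unusedSectionVars false

namespace CfsgLib.SpEven

open CfsgLib.LinFix CfsgLib.SpClassNum

variable {F V V' : Type*} [Field F] [AddCommGroup V] [Module F V] [AddCommGroup V'] [Module F V']

/-- The types of the normal blocks. -/
inductive Tag where
  | v (m : ℕ) (e : Bool)
  | w (k : ℕ) (e : Bool)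
deriving DecidableEq

namespace Tag

/-- The number of generators. -/
def rk : Tag → ℕ
  | .v _ _ => 1
  | .w _ _ => 2

/-- The exponent. -/
def ex : Tag → ℕ
  | .v m _ => 2 * m
  | .w k _ => k

/-- The block sizes. -/
def sizes (t : Tag) : Multiset ℕ := Multiset.replicate t.rk t.ex

/-- The admissible types. -/
def Valid : Tag → Prop
  | .v m e => 1 ≤ m ∧ (e = true → 2 ≤ m)
  | .w k e => 1 ≤ k ∧ (e = true → k % 2 = 1 ∧ 3 ≤ k)

end Tag

/-- The block sizes of a list of blocks. -/
def sizes (l : Multiset Tag) : Multiset ℕ := (l.map Tag.sizes).sum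

@[simp] theorem sizes_zero : sizes 0 = 0 := rfl

@[simp] theorem sizes_cons (t : Tag) (l : Multiset Tag) : sizes (t ::ₘ l) = t.sizes + sizes l := by
  simp [sizes]

theorem sizes_add (l l' : Multiset Tag) : sizes (l + l') = sizes l + sizes l' := by
  simp [sizes]

/-- Normal generators of a block. -/
def Gen (B : V →ₗ[F] V →ₗ[F] F) (N S : Module.End F V) (c : F) : (t : Tag) → (Fin t.rk → V) → Prop
  | .v m e, g => VGen B N S c m e (g ⟨0, Nat.one_pos⟩)
  | .w k e, g => if k % 2 = 0 then e = false ∧ EGen B N S (k / 2) (g ⟨0, Nat.two_pos⟩) (g ⟨1, Nat.one_lt_two⟩)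
      else OGen B N S c (k / 2) e (g ⟨0, Nat.two_pos⟩) (g ⟨1, Nat.one_lt_two⟩)

/-- The spanning family of a block. -/
def fam (N : Module.End F V) (t : Tag) (g : Fin t.rk → V) (p : Fin t.ex × Fin t.rk) : V :=
  (N ^ (p.1 : ℕ)) (g p.2)

/-- A block. -/
def blk (N : Module.End F V) (t : Tag) (g : Fin t.rk → V) : Submodule F V :=
  Submodule.span F (Set.range (fam N t g))

theorem Gen.valid {B : V →ₗ[F] V →ₗ[F] F} {N S : Module.End F V} {c : F} {t : Tag}
    {g : Fin t.rk → V} (hg : Gen B N S c t g) : t.Valid := by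
  cases t with
  | v m e => exact ⟨hg.pos, hg.flag⟩
  | w k e =>
    simp only [Gen] at hg
    split_ifs at hg with hk
    · obtain ⟨rfl, hE⟩ := hg
      have := hE.pos
      exact ⟨by omega, by simp⟩
    · refine ⟨by omega, fun he => ⟨by omega, ?_⟩⟩
      have := hg.flag he
      omega

section char2

variable [CharP F 2] {B : V →ₗ[F] V →ₗ[F] F} {N S : Module.End F V} {c : F} (h : UPair B N S)

include h in
theorem UPair.top_even {m : ℕ} (hm : 1 ≤ m) {y : V} (hy : (S ^ m) y = 0) (x : V) :
    B x ((N ^ (2 * m - 1)) y) = chi B N S x y (m - 1) := by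
  rw [show 2 * m - 1 = 2 * (m - 1) + 1 by omega, pow_succ, Module.End.mul_apply, h.pow_N_eq]
  have hz : N ((S ^ (m - 1)) (N y)) = 0 := by
    rw [h.pow_comm, h.sq, map_add, ← Module.End.mul_apply, ← Module.End.mul_apply, ← pow_succ,
      show m - 1 + 1 = m by omega, hy, h.cap_N hy, add_zero]
  have hf : ∀ i, (((1 : Module.End F V) + N) ^ i) ((S ^ (m - 1)) (N y)) = (S ^ (m - 1)) (N y) := by
    intro i
    induction i with
    | zero => simp
    | succ i ih =>
      rw [pow_succ', Module.End.mul_apply, ih, LinearMap.add_apply, Module.End.one_apply, hz, add_zero]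
  rw [hf]
  rfl

include h in
theorem UPair.top_odd {m : ℕ} {y : V} (hy : (S ^ m) (N y) = 0) (x : V) :
    B x ((N ^ (2 * m)) y) = psi B S x y m := by
  rw [h.pow_N_eq]
  have hz : N ((S ^ m) y) = 0 := by rw [h.pow_comm, hy]
  have hf : ∀ i, (((1 : Module.End F V) + N) ^ i) ((S ^ m) y) = (S ^ m) y := by
    intro i
    induction i with
    | zero => simp
    | succ i ih =>
      rw [pow_succ', Module.End.mul_apply, ih, LinearMap.add_apply, Module.End.one_apply, hz, add_zero]
  rw [hf]
  rfl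

include h in
theorem UPair.exists_aux : ∃ u : Module.End F V, (∀ z, N (u z) = u (N z)) ∧ (∀ z, S z = N (N (u z))) ∧
    ∀ W : Submodule F V, Inv N W → Inv u W := by
  obtain ⟨K, hK⟩ := h.nil
  refine ⟨∑ i ∈ Finset.range K, (-N) ^ i, fun z => ?_, fun z => ?_, fun W hW z hz => ?_⟩
  · exact LinearMap.congr_fun (Commute.sum_right _ _ _ fun i _ =>
      ((Commute.refl N).neg_right).pow_right i).eq z
  · have e : ((1 : Module.End F V) + N) * ∑ i ∈ Finset.range K, (-N) ^ i = 1 := by
      have := mul_neg_geom_sum (-N) K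
      rwa [sub_neg_eq_add, neg_pow, hK, mul_zero, sub_zero] at this
    have e' := LinearMap.congr_fun e z
    rw [Module.End.mul_apply, LinearMap.add_apply, Module.End.one_apply, Module.End.one_apply] at e'
    rw [h.sq, ← map_add, e']
  · rw [LinearMap.sum_apply]
    refine W.sum_mem fun i _ => Inv.pow (fun v hv => ?_) i z hz
    exact W.neg_mem (hW v hv)

include h in
theorem UPair.inv_S {W : Submodule F V} (hW : Inv N W) : Inv S W := by
  obtain ⟨u, -, hu, hW'⟩ := h.exists_aux
  intro v hv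
  rw [hu]
  exact hW _ (hW _ (hW' W hW v hv))

include h in
theorem UPair.pair_zero {k : ℕ} (x : V) : ∀ i l y, (N ^ k) y = 0 → k ≤ i + l →
    B ((N ^ i) x) ((N ^ l) y) = 0 := by
  obtain ⟨u, hu, hS, -⟩ := h.exists_aux
  have hu' : ∀ j z, (N ^ j) (u z) = u ((N ^ j) z) := by
    intro j
    induction j with
    | zero => intro z; rfl
    | succ j ih => intro z; rw [pow_succ', Module.End.mul_apply, ih, hu, Module.End.mul_apply]
  intro i
  induction i with
  | zero =>
    intro l y hy hl
    rw [show l = (l - k) + k by omega, pow_add, Module.End.mul_apply, hy, map_zero, map_zero]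
  | succ i ih =>
    intro l y hy hl
    have hs : ∀ j z, N ((N ^ j) z) = (N ^ (j + 1)) z := fun j z => by
      rw [pow_succ' N j, Module.End.mul_apply]
    rw [pow_succ', Module.End.mul_apply, h.adjN, hS, ← hu']
    simp only [hs]
    rw [
      ih (l + 1) y hy (by omega), ih (l + 1 + 1) (u y) (by rw [hu', hy, map_zero]) (by omega),
      add_zero]

include h in
theorem UPair.pair_top {k : ℕ} (x : V) : ∀ i l y, (N ^ k) y = 0 → i + l + 1 = k →
    B ((N ^ i) x) ((N ^ l) y) = B x ((N ^ (k - 1)) y) := by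
  obtain ⟨u, hu, hS, -⟩ := h.exists_aux
  have hu' : ∀ j z, (N ^ j) (u z) = u ((N ^ j) z) := by
    intro j
    induction j with
    | zero => intro z; rfl
    | succ j ih => intro z; rw [pow_succ', Module.End.mul_apply, ih, hu, Module.End.mul_apply]
  intro i
  induction i with
  | zero => intro l y _ hl; rw [show k - 1 = l by omega]; simp
  | succ i ih =>
    intro l y hy hl
    have hs : ∀ j z, N ((N ^ j) z) = (N ^ (j + 1)) z := fun j z => by
      rw [pow_succ' N j, Module.End.mul_apply]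
    rw [pow_succ', Module.End.mul_apply, h.adjN, hS, ← hu']
    simp only [hs]
    rw [
      ih (l + 1) y hy (by omega),
      h.pair_zero x i (l + 1 + 1) (u y) (by rw [hu', hy, map_zero]) (by omega), add_zero]

include h in
theorem Gen.core {t : Tag} {g : Fin t.rk → V} (hg : Gen B N S c t g) :
    (∀ a, (N ^ t.ex) (g a) = 0) ∧
      ∀ a b, B (g a) ((N ^ (t.ex - 1)) (g b)) = if b = a.rev then 1 else 0 := by
  cases t with
  | v m e =>
    have cap : (N ^ (2 * m)) (g ⟨0, Nat.one_pos⟩) = 0 := (h.pow_two_mul_eq_zero_iff m _).2 hg.cap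
    refine ⟨fun a => ?_, fun a b => ?_⟩
    · obtain rfl : a = ⟨0, Nat.one_pos⟩ := Fin.ext (Nat.lt_one_iff.1 a.2)
      exact cap
    · obtain rfl : a = ⟨0, Nat.one_pos⟩ := Fin.ext (Nat.lt_one_iff.1 a.2)
      obtain rfl : b = ⟨0, Nat.one_pos⟩ := Fin.ext (Nat.lt_one_iff.1 b.2)
      show B _ ((N ^ (2 * m - 1)) _) = _
      rw [h.top_even hg.pos hg.cap, hg.phi, if_pos (Nat.sub_add_cancel hg.pos)]
      rfl
  | w k e =>
    simp only [Gen] at hg
    split_ifs at hg with hk
    · obtain ⟨-, hE⟩ := hg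
      obtain ⟨m, rfl⟩ : ∃ m, k = 2 * m := ⟨k / 2, by omega⟩
      rw [show 2 * m / 2 = m by omega] at hE
      have hm1 := hE.pos
      refine ⟨fun (a : Fin 2) => ?_, fun (a b : Fin 2) => ?_⟩
      · refine (h.pow_two_mul_eq_zero_iff m _).2 ?_
        fin_cases a
        exacts [hE.capx, hE.capy]
      · show B (g a) ((N ^ (2 * m - 1)) (g b)) = _
        have hb : (S ^ m) (g b) = 0 := by
          fin_cases b
          exacts [hE.capx, hE.capy]
        rw [h.top_even hm1 hb]
        fin_cases a <;> fin_cases b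
        · exact hE.phix _
        · exact (hE.chixy _).trans (if_pos (Nat.sub_add_cancel hm1))
        · exact (h.chi_comm _ _ _).trans ((congrArg₂ (· + ·)
            ((hE.chixy _).trans (if_pos (Nat.sub_add_cancel hm1))) (hE.psixy _)).trans (add_zero 1))
        · exact hE.phiy _
    · obtain ⟨m, rfl⟩ : ∃ m, k = 2 * m + 1 := ⟨k / 2, by omega⟩
      rw [show (2 * m + 1) / 2 = m by omega] at hg
      refine ⟨fun (a : Fin 2) => ?_, fun (a b : Fin 2) => ?_⟩
      · refine (h.pow_odd_eq_zero_iff m _).2 ?_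
        fin_cases a
        exacts [hg.capx, hg.capy]
      · show B (g a) ((N ^ (2 * m + 1 - 1)) (g b)) = _
        have hb : (S ^ m) (N (g b)) = 0 := by
          fin_cases b
          exacts [hg.capx, hg.capy]
        rw [Nat.add_sub_cancel, h.top_odd hb]
        fin_cases a <;> fin_cases b
        · exact h.psi_self _ _
        · exact (hg.psixy _).trans (if_pos rfl)
        · exact ((h.psi_comm _ _ _).trans (hg.psixy _)).trans (if_pos rfl)
        · exact h.psi_self _ _

include h in
theorem Gen.gram {t : Tag} {g : Fin t.rk → V} (hg : Gen B N S c t g) (cc : Fin t.ex × Fin t.rk → F)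
    (hcc : ∀ q, B (∑ p, cc p • fam N t g p) (fam N t g q) = 0) : cc = 0 := by
  obtain ⟨hcap, htop⟩ := hg.core h
  suffices key : ∀ i : ℕ, ∀ p : Fin t.ex × Fin t.rk, (p.1 : ℕ) = i → cc p = 0 from
    funext fun p => key _ p rfl
  intro i
  induction i using Nat.strong_induction_on with
  | _ i ih =>
    rintro ⟨pi, pa⟩ rfl
    have hq := hcc (⟨t.ex - 1 - pi, by have := pi.2; omega⟩, pa.rev)
    rw [map_sum, LinearMap.sum_apply, Finset.sum_eq_single (pi, pa)] at hq
    · simp only [fam, map_smul, LinearMap.smul_apply, smul_eq_mul] at hq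
      rw [h.pair_top (g pa) _ _ _ (hcap _) (by have := pi.2; omega), htop, if_pos rfl, mul_one] at hq
      exact hq
    · rintro ⟨qi, qa⟩ - hne
      simp only [fam, map_smul, LinearMap.smul_apply, smul_eq_mul]
      rcases lt_trichotomy (qi : ℕ) pi with hlt | heq | hgt
      · rw [ih _ hlt (qi, qa) rfl, zero_mul]
      · have := pi.2
        rw [h.pair_top (g qa) _ _ _ (hcap _) (by omega), htop, if_neg, mul_zero]
        intro e
        exact hne (Prod.ext (Fin.ext heq) (Fin.rev_injective e.symm))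
      · rw [h.pair_zero (g qa) _ _ _ (hcap _) (by omega), mul_zero]
    · simp

include h in
theorem Gen.linearIndependent {t : Tag} {g : Fin t.rk → V} (hg : Gen B N S c t g) :
    LinearIndependent F (fam N t g) :=
  Fintype.linearIndependent_iff.2 fun cc hcc p =>
    congrFun (hg.gram h cc fun q => by rw [hcc]; simp) p

include h in
theorem Gen.nondeg {t : Tag} {g : Fin t.rk → V} (hg : Gen B N S c t g) {v : V}
    (hv : v ∈ blk N t g) (hv' : ∀ w ∈ blk N t g, B v w = 0) : v = 0 := by
  obtain ⟨cc, rfl⟩ := (Submodule.mem_span_range_iff_exists_fun F).1 hv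
  rw [hg.gram h cc fun q => hv' _ (Submodule.subset_span ⟨q, rfl⟩)]
  simp

include h in
theorem Gen.inv {t : Tag} {g : Fin t.rk → V} (hg : Gen B N S c t g) : Inv N (blk N t g) := by
  intro v hv
  refine Submodule.span_le.2 ?_ (show v ∈ Submodule.span F (Set.range (fam N t g)) from hv)
    |> fun (h' : v ∈ (blk N t g).comap N) => h'
  rintro _ ⟨⟨i, a⟩, rfl⟩
  show N (fam N t g (i, a)) ∈ blk N t g
  rw [fam, ← Module.End.mul_apply, ← pow_succ']
  by_cases hi : (i : ℕ) + 1 < t.ex
  · exact Submodule.subset_span ⟨(⟨(i : ℕ) + 1, hi⟩, a), rfl⟩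
  · rw [show (i : ℕ) + 1 = t.ex by omega, (hg.core h).1 a]
    exact Submodule.zero_mem _

include h in
theorem Gen.finrank_map {t : Tag} {g : Fin t.rk → V} (hg : Gen B N S c t g) (j : ℕ) :
    Module.finrank F ↥((blk N t g).map (N ^ j)) = blockRank t.sizes j := by
  let e : Fin (t.ex - j) × Fin t.rk → Fin t.ex × Fin t.rk :=
    fun p => (⟨(p.1 : ℕ) + j, by omega⟩, p.2)
  have he : Function.Injective e := fun p p' hp => by
    simp only [e, Prod.mk.injEq, Fin.mk.injEq] at hp
    exact Prod.ext (Fin.ext (by omega)) hp.2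
  have hli := (hg.linearIndependent h).comp e he
  have hmap : (blk N t g).map (N ^ j) = Submodule.span F (Set.range (fam N t g ∘ e)) := by
    rw [blk, Submodule.map_span]
    refine le_antisymm (Submodule.span_le.2 ?_) (Submodule.span_le.2 ?_)
    · rintro _ ⟨_, ⟨⟨i, a⟩, rfl⟩, rfl⟩
      rw [fam, ← Module.End.mul_apply, ← pow_add]
      by_cases hi : j + (i : ℕ) < t.ex
      · refine Submodule.subset_span ⟨(⟨i, by omega⟩, a), ?_⟩
        simp [e, fam, add_comm]
      · rw [show j + (i : ℕ) = (j + i - t.ex) + t.ex by omega, pow_add, Module.End.mul_apply,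
          (hg.core h).1 a, map_zero]
        exact Submodule.zero_mem _
    · rintro _ ⟨⟨i, a⟩, rfl⟩
      refine Submodule.subset_span ⟨fam N t g (⟨i, by omega⟩, a), ⟨_, rfl⟩, ?_⟩
      simp only [e, fam, Function.comp_apply]
      rw [← Module.End.mul_apply, ← pow_add, add_comm j]
  rw [hmap, finrank_span_eq_card hli, Fintype.card_prod, Fintype.card_fin, Fintype.card_fin,
    Tag.sizes, blockRank, Multiset.map_replicate, Multiset.sum_replicate, smul_eq_mul, mul_comm]

variable {B' : V' →ₗ[F] V' →ₗ[F] F} {N' S' : Module.End F V'} (h' : UPair B' N' S')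

include h h' in
theorem Gen.data_eq {t : Tag} {g : Fin t.rk → V} {g' : Fin t.rk → V'} (hg : Gen B N S c t g)
    (hg' : Gen B' N' S' c t g') (a b : Fin t.rk) (i : ℕ) :
    psi B S (g a) (g b) i = psi B' S' (g' a) (g' b) i ∧
      chi B N S (g a) (g b) i = chi B' N' S' (g' a) (g' b) i := by
  cases t with
  | v m e =>
    obtain rfl : a = ⟨0, Nat.one_pos⟩ := Fin.ext (Nat.lt_one_iff.1 a.2)
    obtain rfl : b = ⟨0, Nat.one_pos⟩ := Fin.ext (Nat.lt_one_iff.1 b.2)
    exact ⟨(h.psi_self _ _).trans (h'.psi_self _ _).symm, (hg.phi i).trans (hg'.phi i).symm⟩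
  | w k e =>
    simp only [Gen] at hg hg'
    have key : ∀ {x y : V} {x' y' : V'}, chi B N S x x i = chi B' N' S' x' x' i →
        chi B N S y y i = chi B' N' S' y' y' i → (∀ j, psi B S x y j = psi B' S' x' y' j) →
        chi B N S x y i = chi B' N' S' x' y' i →
        (psi B S x x i = psi B' S' x' x' i ∧ chi B N S x x i = chi B' N' S' x' x' i) ∧
        (psi B S x y i = psi B' S' x' y' i ∧ chi B N S x y i = chi B' N' S' x' y' i) ∧
        (psi B S y x i = psi B' S' y' x' i ∧ chi B N S y x i = chi B' N' S' y' x' i) ∧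
        (psi B S y y i = psi B' S' y' y' i ∧ chi B N S y y i = chi B' N' S' y' y' i) :=
      fun {x y x' y'} e1 e2 e3 e4 =>
        ⟨⟨(h.psi_self _ _).trans (h'.psi_self _ _).symm, e1⟩, ⟨e3 i, e4⟩,
          ⟨by rw [h.psi_comm, h'.psi_comm, e3], by rw [h.chi_comm, h'.chi_comm, e3, e4]⟩,
          ⟨(h.psi_self _ _).trans (h'.psi_self _ _).symm, e2⟩⟩
    split_ifs at hg with hk
    · rw [if_pos hk] at hg'
      obtain ⟨k1, k2, k3, k4⟩ := key (x := g ⟨0, Nat.two_pos⟩) (y := g ⟨1, Nat.one_lt_two⟩)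
        (x' := g' ⟨0, Nat.two_pos⟩) (y' := g' ⟨1, Nat.one_lt_two⟩)
        ((hg.2.phix i).trans (hg'.2.phix i).symm) ((hg.2.phiy i).trans (hg'.2.phiy i).symm)
        (fun j => (hg.2.psixy j).trans (hg'.2.psixy j).symm) ((hg.2.chixy i).trans (hg'.2.chixy i).symm)
      revert a b
      intro (a : Fin 2) (b : Fin 2)
      fin_cases a <;> fin_cases b
      exacts [k1, k2, k3, k4]
    · rw [if_neg hk] at hg'
      obtain ⟨k1, k2, k3, k4⟩ := key (x := g ⟨0, Nat.two_pos⟩) (y := g ⟨1, Nat.one_lt_two⟩)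
        (x' := g' ⟨0, Nat.two_pos⟩) (y' := g' ⟨1, Nat.one_lt_two⟩)
        ((hg.phix i).trans (hg'.phix i).symm) ((hg.phiy i).trans (hg'.phiy i).symm)
        (fun j => (hg.psixy j).trans (hg'.psixy j).symm) ((hg.chixy i).trans (hg'.chixy i).symm)
      revert a b
      intro (a : Fin 2) (b : Fin 2)
      fin_cases a <;> fin_cases b
      exacts [k1, k2, k3, k4]

include h h' in
theorem pair_congr {x y : V} {x' y' : V'}
    (hd : ∀ i, psi B S x y i = psi B' S' x' y' i ∧ chi B N S x y i = chi B' N' S' x' y' i)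
    (j l : ℕ) : B ((N ^ j) x) ((N ^ l) y) = B' ((N' ^ j) x') ((N' ^ l) y') := by
  have hl : ∀ l i, psi B S x ((N ^ l) y) i = psi B' S' x' ((N' ^ l) y') i ∧
      chi B N S x ((N ^ l) y) i = chi B' N' S' x' ((N' ^ l) y') i := by
    intro l
    induction l with
    | zero => exact hd
    | succ l ih =>
      intro i
      rw [pow_succ', pow_succ', Module.End.mul_apply, Module.End.mul_apply, h.psi_N_right,
        h'.psi_N_right, h.chi_N_right, h'.chi_N_right, (ih i).2, (ih (i + 1)).1, (ih (i + 1)).2]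
      exact ⟨rfl, rfl⟩
  have hj : ∀ j i, psi B S ((N ^ j) x) ((N ^ l) y) i = psi B' S' ((N' ^ j) x') ((N' ^ l) y') i ∧
      chi B N S ((N ^ j) x) ((N ^ l) y) i = chi B' N' S' ((N' ^ j) x') ((N' ^ l) y') i := by
    intro j
    induction j with
    | zero => exact hl l
    | succ j ih =>
      intro i
      rw [pow_succ' N j, pow_succ' N' j, Module.End.mul_apply, Module.End.mul_apply, h.psi_N_left,
        h'.psi_N_left, h.chi_N_left, h'.chi_N_left, h.chi_comm ((N ^ j) x), h'.chi_comm ((N' ^ j) x'),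
        (ih i).2, (ih (i + 1)).1]
      exact ⟨rfl, rfl⟩
  have := (hj j 0).1
  simpa [psi] using this

end char2

/-- An orthogonal decomposition into normal blocks. -/
inductive Dec (B : V →ₗ[F] V →ₗ[F] F) (N S : Module.End F V) (c : F) :
    Submodule F V → Multiset Tag → Prop
  | zero : Dec B N S c ⊥ 0
  | cons {t : Tag} {g : Fin t.rk → V} {W : Submodule F V} {l : Multiset Tag} :
      Gen B N S c t g → Dec B N S c W l → (∀ x ∈ blk N t g, ∀ w ∈ W, B x w = 0) →
      Dec B N S c (blk N t g ⊔ W) (t ::ₘ l)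

namespace Dec

variable {B : V →ₗ[F] V →ₗ[F] F} {N S : Module.End F V} {c : F}

theorem valid {W : Submodule F V} {l : Multiset Tag} (hd : Dec B N S c W l) :
    ∀ t ∈ l, t.Valid := by
  induction hd with
  | zero => simp
  | cons hg _ _ ih =>
    intro t ht
    rcases Multiset.mem_cons.1 ht with rfl | h'
    exacts [hg.valid, ih t h']

theorem eq_bot {W : Submodule F V} {l : Multiset Tag} (hd : Dec B N S c W l) (hl : l = 0) :
    W = ⊥ := by
  cases hd with
  | zero => rfl
  | cons => exact absurd hl Multiset.cons_ne_zero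

theorem union {U U' : Submodule F V} {a b : Multiset Tag} (hU : Dec B N S c U a)
    (hU' : Dec B N S c U' b) (ho : ∀ x ∈ U, ∀ y ∈ U', B x y = 0) :
    Dec B N S c (U ⊔ U') (a + b) := by
  induction hU with
  | zero => rwa [bot_sup_eq, zero_add]
  | @cons t g W l hg _ hgW ih =>
    rw [sup_assoc, Multiset.cons_add]
    refine .cons hg (ih fun x hx y hy => ho x (Submodule.mem_sup_right hx) y hy) fun x hx w hw => ?_
    obtain ⟨w₁, h₁, w₂, h₂, rfl⟩ := Submodule.mem_sup.1 hw
    rw [map_add, hgW x hx _ h₁, ho x (Submodule.mem_sup_left hx) _ h₂, add_zero]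

theorem split [CharP F 2] (h : UPair B N S) {W : Submodule F V} {l : Multiset Tag}
    (hd : Dec B N S c W l) : ∀ l₁ l₂, l = l₁ + l₂ → ∃ U U', Dec B N S c U l₁ ∧ Dec B N S c U' l₂ ∧
      U ⊔ U' = W ∧ ∀ x ∈ U, ∀ y ∈ U', B x y = 0 := by
  induction hd with
  | zero =>
    intro l₁ l₂ hl
    obtain ⟨rfl, rfl⟩ := add_eq_zero.1 hl.symm
    exact ⟨⊥, ⊥, .zero, .zero, bot_sup_eq ⊥, fun x hx y _ => by
      rw [Submodule.mem_bot] at hx; simp [hx]⟩
  | @cons t g W l hg _ hgW ih =>
    intro l₁ l₂ hl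
    rcases Multiset.mem_add.1 (hl ▸ Multiset.mem_cons_self t l) with ht | ht
    · obtain ⟨l₁', rfl⟩ := Multiset.exists_cons_of_mem ht
      obtain ⟨U, U', hU, hU', hsup, ho⟩ := ih l₁' l₂ (by rwa [Multiset.cons_add, Multiset.cons_inj_right] at hl)
      refine ⟨blk N t g ⊔ U, U', .cons hg hU fun x hx w hw => hgW x hx w (hsup ▸ Submodule.mem_sup_left hw),
        hU', by rw [sup_assoc, hsup], fun x hx y hy => ?_⟩
      obtain ⟨x₁, h₁, x₂, h₂, rfl⟩ := Submodule.mem_sup.1 hx
      rw [map_add, LinearMap.add_apply, hgW x₁ h₁ y (hsup ▸ Submodule.mem_sup_right hy), ho x₂ h₂ y hy,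
        add_zero]
    · obtain ⟨l₂', rfl⟩ := Multiset.exists_cons_of_mem ht
      obtain ⟨U, U', hU, hU', hsup, ho⟩ := ih l₁ l₂' (by rwa [Multiset.add_cons, Multiset.cons_inj_right] at hl)
      refine ⟨U, blk N t g ⊔ U', hU, .cons hg hU' fun x hx w hw => hgW x hx w (hsup ▸ Submodule.mem_sup_right hw),
        by rw [← sup_assoc, sup_comm U, sup_assoc, hsup], fun x hx y hy => ?_⟩
      obtain ⟨y₁, h₁, y₂, h₂, rfl⟩ := Submodule.mem_sup.1 hy
      rw [map_add, h.symm, hgW y₁ h₁ x (hsup ▸ Submodule.mem_sup_left hx), ho x hx y₂ h₂, add_zero]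

theorem single {W : Submodule F V} {t : Tag} (hd : Dec B N S c W {t}) :
    ∃ g, Gen B N S c t g ∧ W = blk N t g := by
  generalize hl : ({t} : Multiset Tag) = l at hd
  cases hd with
  | zero => exact absurd hl (Multiset.singleton_ne_zero t)
  | @cons t' g W' l' hg hd' _ =>
    obtain ⟨rfl, hl'⟩ := (Multiset.singleton_eq_cons_iff _).1 hl
    exact ⟨g, hg, by rw [hd'.eq_bot hl', sup_bot_eq]⟩

section char2

variable [CharP F 2] (h : UPair B N S)

include h

theorem inv_nondeg {W : Submodule F V} {l : Multiset Tag} (hd : Dec B N S c W l) :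
    Inv N W ∧ ∀ v ∈ W, (∀ w ∈ W, B v w = 0) → v = 0 := by
  induction hd with
  | zero => exact ⟨inv_bot N, fun v hv _ => (Submodule.mem_bot F).1 hv⟩
  | @cons t g W l hg _ hgW ih =>
    refine ⟨(hg.inv h).sup ih.1, fun v hv hv' => ?_⟩
    obtain ⟨b, hb, w, hw, rfl⟩ := Submodule.mem_sup.1 hv
    have hb0 : b = 0 := hg.nondeg h hb fun x hx => by
      have := hv' x (Submodule.mem_sup_left hx)
      rw [map_add, LinearMap.add_apply, h.symm w x, hgW x hx w hw, add_zero] at this
      exact this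
    subst hb0
    rw [zero_add] at hv' ⊢
    exact ih.2 w hw fun y hy => hv' y (Submodule.mem_sup_right hy)

theorem finrank_map [FiniteDimensional F V] {W : Submodule F V} {l : Multiset Tag}
    (hd : Dec B N S c W l) : ∀ j, Module.finrank F ↥(W.map (N ^ j)) = blockRank (sizes l) j := by
  induction hd with
  | zero => intro j; simp
  | @cons t g W l hg hd' hgW ih =>
    intro j
    have hdis : Disjoint (blk N t g) W := Submodule.disjoint_def.2 fun x hx hxW =>
      hg.nondeg h hx fun y hy => by rw [h.symm, hgW y hy x hxW]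
    rw [finrank_map_pow_sup (hg.inv h) (hd'.inv_nondeg h).1 hdis, hg.finrank_map h, ih, sizes_cons,
      blockRank_add]

end char2

end Dec

end CfsgLib.SpEven
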