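import Cfsg.Agent.Lib.SpEven.Minimal

/-!
Codes of the normal types and their weighted number.
-/

set_option autoImplicit false

namespace CfsgLib.SpEven

open Finset

/-- The data of one level: the multiplicity of `V`, its class, and the class of `W` below it. -/
abbrev Lev : Type := Fin 3 × Bool × Bool

mutual
/-- The strings whose last level has no `V`. -/
def strsA : ℕ → Finset (List Lev)
  | 0 => {[(0, false, false)]}
  | i + 1 => (strsA i).image (List.cons (0, false, false)) ∪
      (strsA i).image (List.cons (0, false, true)) ∪ (strsB i).image (List.cons (0, false, false))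

/-- The strings whose last level has a `V`. -/
def strsB : ℕ → Finset (List Lev)
  | 0 => {[(1, false, false)], [(2, false, false)]}
  | i + 1 => (strsA i).image (List.cons (1, false, false)) ∪
      (strsA i).image (List.cons (1, true, false)) ∪ (strsB i).image (List.cons (1, false, false)) ∪
      ((strsA i).image (List.cons (2, false, false)) ∪
      (strsA i).image (List.cons (2, true, false)) ∪ (strsB i).image (List.cons (2, false, false)))
end

/-- The weight of a level. -/
def levW (j : ℕ) (x : Lev) : ℕ := (j + 1) * (x.1 : ℕ) + if x.2.2 then 2 * j + 1 else 0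

/-- The weight of a string. -/
def strW : List Lev → ℕ
  | [] => 0
  | x :: xs => levW xs.length x + strW xs

theorem length_strs : ∀ i, (∀ s ∈ strsA i, s.length = i + 1) ∧ ∀ s ∈ strsB i, s.length = i + 1
  | 0 => by simp [strsA, strsB]
  | i + 1 => by
    obtain ⟨ha, hb⟩ := length_strs i
    refine ⟨fun s hs => ?_, fun s hs => ?_⟩
    · simp only [strsA, mem_union, mem_image] at hs
      rcases hs with (⟨t, ht, rfl⟩ | ⟨t, ht, rfl⟩) | ⟨t, ht, rfl⟩ <;> simp [ha t, hb t, ht]
    · simp only [strsB, mem_union, mem_image] at hs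
      rcases hs with ((⟨t, ht, rfl⟩ | ⟨t, ht, rfl⟩) | ⟨t, ht, rfl⟩) |
        ((⟨t, ht, rfl⟩ | ⟨t, ht, rfl⟩) | ⟨t, ht, rfl⟩) <;> simp [ha t, hb t, ht]

/-- The level of a list of types. -/
def lev (l : Multiset Tag) (i : ℕ) : Lev :=
  (Fin.ofNat 3 (l.count (.v (i + 1) false) + l.count (.v (i + 1) true)),
    decide (0 < l.count (.v (i + 1) true)), decide (0 < i ∧ 0 < l.count (.w (2 * i + 1) true)))

/-- The string of a list of types. -/
def str (l : Multiset Tag) : ℕ → List Lev
  | 0 => [lev l 0]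
  | i + 1 => lev l (i + 1) :: str l i

theorem length_str (l : Multiset Tag) : ∀ i, (str l i).length = i + 1
  | 0 => rfl
  | i + 1 => by rw [str, List.length_cons, length_str l i]

theorem str_inj {l l' : Multiset Tag} : ∀ {i}, str l i = str l' i → ∀ j ≤ i, lev l j = lev l' j
  | 0, h, j, hj => by
    obtain rfl : j = 0 := by omega
    simpa [str] using h
  | i + 1, h, j, hj => by
    simp only [str, List.cons.injEq] at h
    rcases Nat.lt_or_ge j (i + 1) with h' | h'
    · exact str_inj h.2 j (by omega)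
    · obtain rfl : j = i + 1 := by omega
      exact h.1

theorem lev_val {l : Multiset Tag} (hl : Normal l) (i : ℕ) :
    ((lev l i).1 : ℕ) = l.count (.v (i + 1) false) + l.count (.v (i + 1) true) := by
  have := hl.cnt (i + 1)
  simp only [lev, Fin.val_ofNat]
  omega

theorem str_mem {l : Multiset Tag} (hl : Normal l) : ∀ i,
    ((lev l i).1 = 0 → str l i ∈ strsA i) ∧ ((lev l i).1 ≠ 0 → str l i ∈ strsB i) := by
  have h3 : ∀ b : Fin 3, b ≠ 0 → b = 1 ∨ b = 2 := by decide
  have he : ∀ i, (lev l i).1 = 0 → (lev l i).2.1 = false := fun i hb => by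
    have hb' : ((lev l i).1 : ℕ) = 0 := by rw [hb]; rfl
    rw [lev_val hl] at hb'
    simp only [lev, decide_eq_false_iff_not, not_lt]
    omega
  have hfb : ∀ i, (lev l i).2.2 = true → (lev l i).1 = 0 := fun i hf => by
    simp only [lev, decide_eq_true_eq] at hf
    have hm := Multiset.count_pos.1 hf.2
    refine Fin.ext ?_
    rw [lev_val hl, Multiset.count_eq_zero.2 (hl.above i false hm),
      Multiset.count_eq_zero.2 (hl.above i true hm)]
    rfl
  have hfp : ∀ i, (lev l (i + 1)).2.2 = true → (lev l i).1 = 0 := fun i hf => by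
    simp only [lev, decide_eq_true_eq] at hf
    have hm := Multiset.count_pos.1 hf.2
    refine Fin.ext ?_
    rw [lev_val hl, Multiset.count_eq_zero.2 (hl.below (i + 1) false hm),
      Multiset.count_eq_zero.2 (hl.below (i + 1) true hm)]
    rfl
  have hep : ∀ i, (lev l (i + 1)).2.1 = true → (lev l i).1 = 0 := fun i hf => by
    simp only [lev, decide_eq_true_eq] at hf
    have hm := Multiset.count_pos.1 hf
    refine Fin.ext ?_
    rw [lev_val hl, Multiset.count_eq_zero.2 (hl.next i false hm),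
      Multiset.count_eq_zero.2 (hl.next i true hm)]
    rfl
  intro i
  induction i with
  | zero =>
    have e0 : (lev l 0).2.1 = false := by
      simp only [lev, decide_eq_false_iff_not]
      intro hc
      have := (hl.valid _ (Multiset.count_pos.1 hc)).2 rfl
      omega
    have f0 : (lev l 0).2.2 = false := by simp [lev]
    rcases hx : lev l 0 with ⟨b, e, f⟩
    rw [hx] at e0 f0
    obtain rfl : e = false := e0
    obtain rfl : f = false := f0
    refine ⟨fun hb => ?_, fun hb => ?_⟩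
    · obtain rfl : b = 0 := hb
      simp [str, hx, strsA]
    · rcases h3 b hb with rfl | rfl <;> simp [str, hx, strsB]
  | succ i ih =>
    have he' := he (i + 1)
    have hfb' := hfb (i + 1)
    have hfp' := hfp i
    have hep' := hep i
    rcases hx : lev l (i + 1) with ⟨b, e, f⟩
    rw [hx] at he' hfb' hfp' hep'
    refine ⟨fun hb => ?_, fun hb => ?_⟩
    · obtain rfl : b = 0 := hb
      obtain rfl : e = false := he' rfl
      simp only [str, hx, strsA, mem_union, mem_image]
      by_cases hp : (lev l i).1 = 0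
      · cases f
        · exact Or.inl (Or.inl ⟨_, ih.1 hp, rfl⟩)
        · exact Or.inl (Or.inr ⟨_, ih.1 hp, rfl⟩)
      · obtain rfl : f = false := Bool.eq_false_iff.2 fun hf => hp (hfp' hf)
        exact Or.inr ⟨_, ih.2 hp, rfl⟩
    · obtain rfl : f = false := Bool.eq_false_iff.2 fun hf => hb (hfb' hf)
      simp only [str, hx, strsB, mem_union, mem_image]
      by_cases hp : (lev l i).1 = 0
      · rcases h3 b hb with rfl | rfl <;> cases e
        · exact Or.inl (Or.inl (Or.inl ⟨_, ih.1 hp, rfl⟩))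
        · exact Or.inl (Or.inl (Or.inr ⟨_, ih.1 hp, rfl⟩))
        · exact Or.inr (Or.inl (Or.inl ⟨_, ih.1 hp, rfl⟩))
        · exact Or.inr (Or.inl (Or.inr ⟨_, ih.1 hp, rfl⟩))
      · obtain rfl : e = false := Bool.eq_false_iff.2 fun he'' => hp (hep' he'')
        rcases h3 b hb with rfl | rfl
        · exact Or.inl (Or.inr ⟨_, ih.2 hp, rfl⟩)
        · exact Or.inr (Or.inr ⟨_, ih.2 hp, rfl⟩)

theorem strW_str (l : Multiset Tag) : ∀ i, strW (str l i) = ∑ j ∈ range (i + 1), levW j (lev l j)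
  | 0 => by simp [str, strW]
  | i + 1 => by
    rw [str, strW, length_str, strW_str l i, sum_range_succ _ (i + 1), add_comm]

/-- The weight of a type. -/
def tagW : Tag → ℕ
  | .v m _ => m
  | .w k _ => k

theorem sum_sizes (l : Multiset Tag) : (sizes l).sum = 2 * (l.map tagW).sum := by
  induction l using Multiset.induction with
  | empty => simp
  | cons t l ih =>
    rw [sizes_cons, Multiset.sum_add, ih, Multiset.map_cons, Multiset.sum_cons, Tag.sizes,
      Multiset.sum_replicate]
    cases t <;> simp [Tag.rk, Tag.ex, tagW] <;> ring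

theorem tagW_le {l : Multiset Tag} {t : Tag} (ht : t ∈ l) : tagW t ≤ (l.map tagW).sum :=
  Multiset.le_sum_of_mem (Multiset.mem_map_of_mem tagW ht)

/-- The part of the weight seen by the code. -/
def seen (n : ℕ) (l : Multiset Tag) : ℕ :=
  ∑ i ∈ range n, ((i + 1) * (l.count (.v (i + 1) false) + l.count (.v (i + 1) true)) +
    ((2 * i + 1) * (if 0 < i then l.count (.w (2 * i + 1) true) else 0) +
      (i + 1) * l.count (.w (i + 1) false)))

theorem seen_cons (n : ℕ) (t : Tag) (l : Multiset Tag) :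
    seen n (t ::ₘ l) = seen n {t} + seen n l := by
  simp only [seen, ← sum_add_distrib]
  refine sum_congr rfl fun i _ => ?_
  simp only [← Multiset.singleton_add t l, Multiset.count_add]
  split_ifs <;> ring

theorem seen_single {n : ℕ} {t : Tag} (ht : t.Valid) (hn : tagW t ≤ n) : seen n {t} = tagW t := by
  rcases t with ⟨m, e⟩ | ⟨k, e⟩
  · obtain ⟨hm, -⟩ := ht
    simp only [tagW] at hn
    rw [seen, sum_eq_single_of_mem (m - 1) (mem_range.2 (by omega)) fun i _ hi => ?_]
    · cases e <;> simp [Multiset.count_singleton, tagW, show m - 1 + 1 = m by omega]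
    · cases e <;> simp [Multiset.count_singleton, show i + 1 ≠ m by omega]
  · obtain ⟨hk, hke⟩ := ht
    simp only [tagW] at hn
    cases e
    · rw [seen, sum_eq_single_of_mem (k - 1) (mem_range.2 (by omega)) fun i _ hi => ?_]
      · simp [Multiset.count_singleton, tagW, show k - 1 + 1 = k by omega]
      · simp [Multiset.count_singleton, show i + 1 ≠ k by omega]
    · obtain ⟨h1, h2⟩ := hke rfl
      obtain ⟨j, rfl⟩ : ∃ j, k = 2 * j + 1 := ⟨k / 2, by omega⟩
      rw [seen, sum_eq_single_of_mem j (mem_range.2 (by omega)) fun i _ hi => ?_]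
      · simp [Multiset.count_singleton, tagW, show 0 < j by omega]
      · simp [Multiset.count_singleton, hi]

theorem seen_eq {n : ℕ} {l : Multiset Tag} (hv : ∀ t ∈ l, t.Valid) (hn : ∀ t ∈ l, tagW t ≤ n) :
    seen n l = (l.map tagW).sum := by
  induction l using Multiset.induction with
  | empty => simp [seen]
  | cons t l ih =>
    rw [seen_cons, seen_single (hv t (Multiset.mem_cons_self t l)) (hn t (Multiset.mem_cons_self t l)),
      ih (fun s hs => hv s (Multiset.mem_cons_of_mem hs)) (fun s hs => hn s (Multiset.mem_cons_of_mem hs)),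
      Multiset.map_cons, Multiset.sum_cons]

/-- The codes of weight at most `n`. -/
abbrev Code (m : ℕ) : Type := (Fin (m + 1) → Fin (m + 2)) × List Lev

/-- The weight of a code. -/
def codeW {m : ℕ} (x : Code m) : ℕ := (∑ i : Fin (m + 1), ((i : ℕ) + 1) * (x.1 i : ℕ)) + strW x.2

/-- The possible codes. -/
def codes (m : ℕ) : Finset (Code m) :=
  ((Finset.univ : Finset (Fin (m + 1) → Fin (m + 2))) ×ˢ (strsA m ∪ strsB m)).filter
    fun x => codeW x ≤ m + 1

/-- The code of a list of types. -/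
def code (m : ℕ) (l : Multiset Tag) : Code m :=
  (fun i => Fin.ofNat (m + 2) (l.count (.w ((i : ℕ) + 1) false)), str l m)

theorem count_w_lt {m : ℕ} {l : Multiset Tag} (hn : (l.map tagW).sum ≤ m + 1) (k : ℕ) :
    l.count (.w (k + 1) false) < m + 2 := by
  by_contra hlt
  have hle : Multiset.replicate (m + 2) (Tag.w (k + 1) false) ≤ l :=
    Multiset.le_count_iff_replicate_le.1 (by omega)
  obtain ⟨r, rfl⟩ := Multiset.le_iff_exists_add.1 hle
  rw [Multiset.map_add, Multiset.sum_add, Multiset.map_replicate, Multiset.sum_replicate, smul_eq_mul,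
    tagW] at hn
  have : m + 2 ≤ (m + 2) * (k + 1) := Nat.le_mul_of_pos_right _ (by omega)
  omega

theorem code_spec {m : ℕ} {l : Multiset Tag} (hl : Normal l) (hn : (l.map tagW).sum ≤ m + 1) :
    code m l ∈ codes m ∧ codeW (code m l) = (l.map tagW).sum := by
  have hw : codeW (code m l) = (l.map tagW).sum := by
    rw [← seen_eq hl.valid fun t ht => (tagW_le ht).trans hn, seen, codeW, code, strW_str,
      Fin.sum_univ_eq_sum_range
        (fun i => (i + 1) * (((Fin.ofNat (m + 2) (l.count (.w (i + 1) false))) : Fin (m + 2)) : ℕ)),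
      ← sum_add_distrib]
    refine sum_congr rfl fun i _ => ?_
    rw [levW, lev_val hl, Fin.val_ofNat, Nat.mod_eq_of_lt (count_w_lt hn i)]
    have := hl.pair (2 * i + 1)
    simp only [lev, decide_eq_true_eq]
    split_ifs with h1 h2 h3
    · rw [show l.count (Tag.w (2 * i + 1) true) = 1 by omega]; ring
    · exact absurd h1.1 h2
    · rw [show l.count (Tag.w (2 * i + 1) true) = 0 by omega]; ring
    · ring
  refine ⟨mem_filter.2 ⟨mem_product.2 ⟨mem_univ _, ?_⟩, hw ▸ hn⟩, hw⟩
  rcases eq_or_ne (lev l m).1 0 with h | h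
  exacts [mem_union_left _ ((str_mem hl m).1 h), mem_union_right _ ((str_mem hl m).2 h)]

theorem code_inj {m : ℕ} {l l' : Multiset Tag} (hl : Normal l) (hl' : Normal l')
    (hn : (l.map tagW).sum ≤ m + 1) (hn' : (l'.map tagW).sum ≤ m + 1)
    (h : code m l = code m l') : l = l' := by
  simp only [code, Prod.mk.injEq] at h
  obtain ⟨hw, hs⟩ := h
  have hlev := str_inj hs
  refine Multiset.ext.2 fun t => ?_
  by_cases ht : t.Valid ∧ tagW t ≤ m + 1
  swap
  · have : ∀ {L : Multiset Tag}, Normal L → (L.map tagW).sum ≤ m + 1 → L.count t = 0 := fun hL hb =>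
      Multiset.count_eq_zero.2 fun hmem => ht ⟨hL.valid t hmem, (tagW_le hmem).trans hb⟩
    rw [this hl hn, this hl' hn']
  obtain ⟨hv, hb⟩ := ht
  rcases t with ⟨j, e⟩ | ⟨k, e⟩
  · obtain ⟨hj, -⟩ := hv
    simp only [tagW] at hb
    obtain ⟨i, rfl⟩ : ∃ i, j = i + 1 := ⟨j - 1, by omega⟩
    have h := hlev i (by omega)
    have hb' : ((lev l i).1 : ℕ) = (lev l' i).1 := by rw [h]
    have he := congrArg (fun x : Lev => x.2.1) h
    rw [lev_val hl, lev_val hl'] at hb'
    simp only [lev, decide_eq_decide] at he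
    have := hl.same (i + 1)
    have := hl'.same (i + 1)
    cases e <;> omega
  · obtain ⟨hk, hke⟩ := hv
    simp only [tagW] at hb
    cases e
    · obtain ⟨i, rfl⟩ : ∃ i, k = i + 1 := ⟨k - 1, by omega⟩
      have := congrArg Fin.val (congrFun hw ⟨i, by omega⟩)
      simpa [Nat.mod_eq_of_lt (count_w_lt hn i), Nat.mod_eq_of_lt (count_w_lt hn' i)] using this
    · obtain ⟨h1, h2⟩ := hke rfl
      obtain ⟨i, rfl⟩ : ∃ i, k = 2 * i + 1 := ⟨k / 2, by omega⟩
      have h := congrArg (fun x : Lev => x.2.2) (hlev i (by omega))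
      simp only [lev, decide_eq_decide] at h
      have := hl.pair (2 * i + 1)
      have := hl'.pair (2 * i + 1)
      omega

/-- The weighted numbers of the two kinds of strings. -/
noncomputable def AB : ℕ → ℝ × ℝ
  | 0 => (1, 1 / 2 + 1 / 4)
  | i + 1 => ((AB i).1 * (1 + (1 / 2) ^ (2 * i + 3)) + (AB i).2,
      (2 * (AB i).1 + (AB i).2) * ((1 / 2) ^ (i + 2) + (1 / 2) ^ (2 * i + 4)))

/-- The product for the remaining types. -/
noncomputable def prodP (n : ℕ) : ℝ := ∏ i ∈ range n, (1 - (1 / 2 : ℝ) ^ (i + 1))⁻¹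

theorem AB_nonneg : ∀ i, 0 ≤ (AB i).1 ∧ 0 ≤ (AB i).2
  | 0 => by norm_num [AB]
  | i + 1 => by
    obtain ⟨ha, hb⟩ := AB_nonneg i
    exact ⟨by rw [AB]; positivity, by rw [AB]; positivity⟩

theorem strs_sum_le : ∀ i,
    (∑ s ∈ strsA i, (1 / 2 : ℝ) ^ strW s) ≤ (AB i).1 ∧
      (∑ s ∈ strsB i, (1 / 2 : ℝ) ^ strW s) ≤ (AB i).2
  | 0 => by
    refine ⟨by norm_num [strsA, AB, strW, levW], ?_⟩
    rw [strsB, sum_pair (by decide)]
    norm_num [AB, strW, levW]
  | i + 1 => by
    obtain ⟨ha, hb⟩ := strs_sum_le i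
    obtain ⟨la, lb⟩ := length_strs i
    have hcons : ∀ (x : Lev) (T : Finset (List Lev)), (∀ s ∈ T, s.length = i + 1) →
        ∑ s ∈ T.image (List.cons x), (1 / 2 : ℝ) ^ strW s =
          (1 / 2 : ℝ) ^ levW (i + 1) x * ∑ s ∈ T, (1 / 2 : ℝ) ^ strW s := fun x T hT => by
      rw [sum_image fun a _ b _ hab => List.cons_injective hab, mul_sum]
      refine sum_congr rfl fun s hs => ?_
      rw [strW, hT s hs, pow_add]
    have hu : ∀ s t : Finset (List Lev), ∑ x ∈ s ∪ t, (1 / 2 : ℝ) ^ strW x ≤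
        (∑ x ∈ s, (1 / 2 : ℝ) ^ strW x) + ∑ x ∈ t, (1 / 2 : ℝ) ^ strW x := fun s t => by
      rw [← sum_union_inter]
      exact le_add_of_nonneg_right (sum_nonneg fun _ _ => by positivity)
    constructor
    · rw [strsA]
      refine le_trans (le_trans (hu _ _) (add_le_add (hu _ _) le_rfl)) ?_
      rw [hcons _ _ la, hcons _ _ la, hcons _ _ lb, AB]
      simp [levW] at ha hb ⊢
      have h1 := mul_le_mul_of_nonneg_left ha (show (0 : ℝ) ≤ (2 ^ (2 * (i + 1) + 1))⁻¹ by positivity)
      rw [show 2 * i + 3 = 2 * (i + 1) + 1 by ring]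
      nlinarith
    · rw [strsB]
      refine le_trans (le_trans (hu _ _) (add_le_add (le_trans (hu _ _) (add_le_add (hu _ _) le_rfl))
        (le_trans (hu _ _) (add_le_add (hu _ _) le_rfl)))) ?_
      rw [hcons _ _ la, hcons _ _ la, hcons _ _ lb, hcons _ _ la, hcons _ _ la, hcons _ _ lb, AB]
      simp [levW] at ha hb ⊢
      rw [show 2 * i + 4 = (i + 1 + 1) * 2 by ring, show i + 2 = i + 1 + 1 by ring]
      have h1 := mul_le_mul_of_nonneg_left ha (show (0 : ℝ) ≤ (2 ^ (i + 1 + 1))⁻¹ by positivity)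
      have h2 := mul_le_mul_of_nonneg_left ha (show (0 : ℝ) ≤ (2 ^ ((i + 1 + 1) * 2))⁻¹ by positivity)
      have h3 := mul_le_mul_of_nonneg_left hb (show (0 : ℝ) ≤ (2 ^ (i + 1 + 1))⁻¹ by positivity)
      have h4 := mul_le_mul_of_nonneg_left hb (show (0 : ℝ) ≤ (2 ^ ((i + 1 + 1) * 2))⁻¹ by positivity)
      linarith

theorem prodP_pos (n : ℕ) : 0 < prodP n :=
  prod_pos fun i _ => inv_pos.2 (sub_pos.2 (pow_lt_one₀ (by norm_num) (by norm_num) (by omega)))

/-- The bound at `n + 1` levels. -/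
noncomputable def lvlBound (i : ℕ) : ℝ := ((AB i).1 + (AB i).2) * prodP (i + 1)

theorem lvlBound_mono : Monotone lvlBound := by
  refine monotone_nat_of_le_succ fun i => ?_
  obtain ⟨ha, hb⟩ := AB_nonneg i
  have h1 : (AB i).1 + (AB i).2 ≤ (AB (i + 1)).1 + (AB (i + 1)).2 := by
    have : 0 ≤ (AB i).1 * (1 / 2) ^ (2 * i + 3) := by positivity
    have h2 := (AB_nonneg (i + 1)).2
    rw [show (AB (i + 1)).1 = (AB i).1 * (1 + (1 / 2) ^ (2 * i + 3)) + (AB i).2 from rfl]
    linarith
  refine mul_le_mul h1 ?_ (prodP_pos _).le (le_trans (add_nonneg ha hb) h1)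
  rw [prodP, prodP, prod_range_succ _ (i + 1)]
  refine le_mul_of_one_le_right (prodP_pos _).le ((one_le_inv₀ ?_).2 ?_)
  · exact sub_pos.2 (pow_lt_one₀ (by norm_num) (by norm_num) (by omega))
  · exact sub_le_self _ (by positivity)

theorem lvlBound_step (k : ℕ) :
    lvlBound (k + 12) * (1 + 4 * (1 / 2 : ℝ) ^ (k + 13)) ≤ lvlBound (k + 11) * (1 + 4 * (1 / 2 : ℝ) ^ (k + 12)) := by
  obtain ⟨ha, hb⟩ := AB_nonneg (k + 11)
  set a : ℝ := (1 / 2) ^ (k + 12) with ha'
  have ha0 : 0 < a := by positivity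
  have ha1 : a ≤ 1 / 4096 :=
    le_trans (pow_le_pow_of_le_one (by norm_num) (by norm_num) (show 12 ≤ k + 12 by omega)) (by norm_num)
  have e1 : (1 / 2 : ℝ) ^ (k + 13) = a / 2 := by rw [ha', pow_succ]; ring
  rw [lvlBound, lvlBound, show k + 12 = k + 11 + 1 by omega, AB, prodP, prod_range_succ _ (k + 11 + 1), e1,
    show 2 * (k + 11) + 3 = (k + 12) * 2 + 1 by omega, pow_succ, pow_mul, ← ha',
    show 2 * (k + 11) + 4 = (k + 13) * 2 by omega, pow_mul, e1, show k + 11 + 1 = k + 12 by omega,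
    ← prodP]
  set A := (AB (k + 11)).1
  set B := (AB (k + 11)).2
  have hP := prodP_pos (k + 12)
  have hpos : 0 < 1 - a / 2 := by linarith
  have haa : a * a ≤ a / 4096 := by nlinarith
  have haaa : a * a * a ≤ a / 4096 := by nlinarith
  have key : (1 + a + a * a) * (1 + 4 * (a / 2)) ≤ (1 + 4 * a) * (1 - a / 2) := by nlinarith
  have hT : A * (1 + a ^ 2 * (1 / 2)) + B + (2 * A + B) * (a / 2 + (a / 2) ^ 2) ≤
      (A + B) * (1 + a + a * a) := by
    nlinarith [mul_nonneg ha (mul_nonneg ha0.le ha0.le), mul_nonneg hb ha0.le,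
      mul_nonneg hb (mul_nonneg ha0.le ha0.le)]
  refine le_of_mul_le_mul_right ?_ hpos
  have e2 : (A * (1 + a ^ 2 * (1 / 2)) + B + (2 * A + B) * (a / 2 + (a / 2) ^ 2)) *
      (prodP (k + 12) * (1 - a / 2)⁻¹) * (1 + 4 * (a / 2)) * (1 - a / 2) =
      (A * (1 + a ^ 2 * (1 / 2)) + B + (2 * A + B) * (a / 2 + (a / 2) ^ 2)) *
      (1 + 4 * (a / 2)) * prodP (k + 12) :=
    (fun (x y P z : ℝ) (hz : z ≠ 0) => show x * (P * z⁻¹) * y * z = x * y * P by field_simp)
      _ _ _ _ hpos.ne'
  rw [e2]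
  have h1 := mul_le_mul_of_nonneg_right hT (show 0 ≤ 1 + 4 * (a / 2) by positivity)
  have h2 := mul_le_mul_of_nonneg_left key (add_nonneg ha hb)
  have h3 : (A * (1 + a ^ 2 * (1 / 2)) + B + (2 * A + B) * (a / 2 + (a / 2) ^ 2)) *
      (1 + 4 * (a / 2)) ≤ (A + B) * ((1 + 4 * a) * (1 - a / 2)) := h1.trans (by linarith)
  exact (mul_le_mul_of_nonneg_right h3 hP.le).trans_eq (by ring)

theorem lvlBound_base : lvlBound 11 * (1 + 4 * (1 / 2 : ℝ) ^ 12) ≤ 76 / 5 := by
  simp only [lvlBound, AB, prodP, prod_range_succ, prod_range_zero]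
  norm_num

theorem lvlBound_le (i : ℕ) : lvlBound i ≤ 76 / 5 := by
  have h : ∀ k, lvlBound (k + 11) * (1 + 4 * (1 / 2 : ℝ) ^ (k + 12)) ≤ 76 / 5 := by
    intro k
    induction k with
    | zero => exact lvlBound_base
    | succ k ih => exact (lvlBound_step k).trans ih
  refine (lvlBound_mono (show i ≤ i + 11 by omega)).trans (le_trans ?_ (h i))
  refine le_mul_of_one_le_right (mul_nonneg (add_nonneg (AB_nonneg _).1 (AB_nonneg _).2)
    (prodP_pos _).le) (le_add_of_nonneg_right (by positivity))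

theorem codes_sum_le (m : ℕ) : ∑ x ∈ codes m, (1 / 2 : ℝ) ^ codeW x ≤ 76 / 5 := by
  refine le_trans (sum_le_sum_of_subset_of_nonneg (filter_subset _ _) fun _ _ _ => by positivity) ?_
  refine le_trans ?_ (lvlBound_le m)
  rw [sum_product]
  have hw : ∀ (a : Fin (m + 1) → Fin (m + 2)) (b : List Lev), (1 / 2 : ℝ) ^ codeW (a, b) =
      (∏ i : Fin (m + 1), ((1 / 2 : ℝ) ^ ((i : ℕ) + 1)) ^ (a i : ℕ)) * (1 / 2 : ℝ) ^ strW b := fun a b => by
    rw [codeW, pow_add (1 / 2 : ℝ), ← prod_pow_eq_pow_sum]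
    simp only [pow_mul]
  simp only [hw, ← mul_sum, ← sum_mul]
  rw [lvlBound, mul_comm (_ + _)]
  refine mul_le_mul ?_ ?_ (sum_nonneg fun _ _ => by positivity) (prodP_pos _).le
  · rw [← Fintype.prod_sum (fun (i : Fin (m + 1)) (a : Fin (m + 2)) => ((1 / 2 : ℝ) ^ ((i : ℕ) + 1)) ^ (a : ℕ)),
      prodP, ← Fin.prod_univ_eq_prod_range]
    refine prod_le_prod (fun _ _ => sum_nonneg fun _ _ => by positivity) fun i _ => ?_
    rw [Fin.sum_univ_eq_sum_range (fun a => ((1 / 2 : ℝ) ^ ((i : ℕ) + 1)) ^ a)]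
    have hz : (1 / 2 : ℝ) ^ ((i : ℕ) + 1) < 1 := pow_lt_one₀ (by norm_num) (by norm_num) (by omega)
    rw [← one_div, le_div_iff₀ (by linarith), geom_sum_mul_neg]
    exact sub_le_self _ (by positivity)
  · refine le_trans ?_ (add_le_add (strs_sum_le m).1 (strs_sum_le m).2)
    rw [← sum_union_inter]
    exact le_add_of_nonneg_right (sum_nonneg fun _ _ => by positivity)

/-- The number of pairs of a code and an object of the complementary weight is bounded. -/
theorem sum_bound {q : ℕ} (hq : 2 ≤ q) (m : ℕ) :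
    5 * ∑ x ∈ codes m, q ^ (m + 1 - codeW x) ≤ 76 * q ^ (m + 1) := by
  suffices h : ((∑ x ∈ codes m, q ^ (m + 1 - codeW x) : ℕ) : ℝ) ≤ (q : ℝ) ^ (m + 1) * (76 / 5) by
    rw [← Nat.cast_le (α := ℝ)]
    push_cast at h ⊢
    linarith
  have hq0 : (0 : ℝ) < q := by exact_mod_cast (show 0 < q by omega)
  refine le_trans ?_ (mul_le_mul_of_nonneg_left (codes_sum_le m) (by positivity))
  push_cast
  rw [mul_sum]
  refine sum_le_sum fun x hx => ?_
  have hle := (mem_filter.1 hx).2
  rw [pow_sub₀ _ hq0.ne' hle, ← inv_pow]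
  refine mul_le_mul_of_nonneg_left (pow_le_pow_left₀ (by positivity) ?_ _) (by positivity)
  rw [one_div]
  exact inv_anti₀ (by norm_num) (by exact_mod_cast hq)

end CfsgLib.SpEven
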