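import Cfsg.Agent.Lib.SpEven.Norm
import Cfsg.Agent.Lib.SpClassNum.Label

/-!
Isometries without fixed vectors in characteristic two: the label is self-reciprocal, so it is
determined by a label of half the weight.
-/

set_option autoImplicit false

namespace CfsgLib.SpEven

open Polynomial CfsgLib.ClassNum CfsgLib.SpClassNum

variable {F : Type*} [Field F]

/-- A palindromic monic polynomial of even degree with non-zero middle coefficient. -/
structure IsPal (f : F[X]) : Prop where
  monic : f.Monic
  even : f.natDegree = 2 * (f.natDegree / 2)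
  pal : ∀ j ≤ f.natDegree, f.coeff (f.natDegree - j) = f.coeff j
  mid : f.coeff (f.natDegree / 2) ≠ 0

/-- Half of a palindromic polynomial. -/
noncomputable def halfPoly (f : F[X]) : F[X] :=
  ∑ j ∈ Finset.range (f.natDegree / 2 + 1), C (f.coeff (f.natDegree / 2 - j)) * X ^ j

theorem coeff_halfPoly (f : F[X]) (i : ℕ) :
    (halfPoly f).coeff i = if i ≤ f.natDegree / 2 then f.coeff (f.natDegree / 2 - i) else 0 := by
  rw [halfPoly, finsetSum_coeff]
  simp [coeff_X_pow, Nat.lt_succ_iff]

theorem halfPoly_one : halfPoly (1 : F[X]) = 1 := by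
  simp [halfPoly]

theorem IsPal.coeff_zero {f : F[X]} (hf : IsPal f) : f.coeff 0 = 1 := by
  have := hf.pal 0 (Nat.zero_le _)
  rw [Nat.sub_zero, hf.monic.coeff_natDegree] at this
  exact this.symm

theorem IsPal.natDegree_halfPoly {f : F[X]} (hf : IsPal f) :
    (halfPoly f).natDegree = f.natDegree / 2 := by
  refine natDegree_eq_of_le_of_coeff_ne_zero (natDegree_le_iff_coeff_eq_zero.2 fun j hj => ?_) ?_
  · rw [coeff_halfPoly, if_neg (by omega)]
  · rw [coeff_halfPoly, if_pos le_rfl, Nat.sub_self, hf.coeff_zero]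
    exact one_ne_zero

theorem IsPal.monic_halfPoly {f : F[X]} (hf : IsPal f) : (halfPoly f).Monic := by
  rw [Monic, leadingCoeff, hf.natDegree_halfPoly, coeff_halfPoly, if_pos le_rfl, Nat.sub_self,
    hf.coeff_zero]

theorem IsPal.eq_of_halfPoly {f g : F[X]} (hf : IsPal f) (hg : IsPal g)
    (he : halfPoly f = halfPoly g) : f = g := by
  have hd : f.natDegree = g.natDegree := by
    have := congrArg natDegree he
    rw [hf.natDegree_halfPoly, hg.natDegree_halfPoly] at this
    have := hf.even
    have := hg.even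
    omega
  have low : ∀ j, j ≤ f.natDegree / 2 → f.coeff j = g.coeff j := fun j hj => by
    have := congrArg (fun p => p.coeff (f.natDegree / 2 - j)) he
    simp only [coeff_halfPoly, ← hd] at this
    rwa [if_pos (by omega), if_pos (by omega),
      show f.natDegree / 2 - (f.natDegree / 2 - j) = j by omega] at this
  ext j
  by_cases hj : j ≤ f.natDegree / 2
  · exact low j hj
  by_cases hj' : j ≤ f.natDegree
  · have h1 := hf.pal j hj'
    have h2 := hg.pal j (hd ▸ hj')
    rw [← hd] at h2
    rw [← h1, ← h2, low _ (by have := hf.even; omega)]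
  · rw [coeff_eq_zero_of_natDegree_lt (by omega), coeff_eq_zero_of_natDegree_lt (by omega)]

theorem isPal_of_recip [CharP F 2] {f : F[X]} (hm : f.Monic) (hr : recip f = f) (h0 : f.coeff 0 ≠ 0)
    (h1 : f.eval 1 ≠ 0) : IsPal f := by
  have hrev : f.reverse = C (f.coeff 0) * f := by
    have := congrArg (fun g => C (f.coeff 0) * g) hr
    simpa [recip, ← mul_assoc, ← C_mul, mul_inv_cancel₀ h0] using this
  have e1 := SpClassNum.aeval_reverse (F := F) (show (1 : F) * 1 = 1 by simp) (by simp) f
  simp only [coe_aeval_eq_eval, one_pow, one_mul] at e1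
  rw [hrev, eval_mul, eval_C] at e1
  have hc : f.coeff 0 = 1 := (mul_eq_right₀ h1).1 e1
  rw [hc, C_1, one_mul] at hrev
  have pal : ∀ j ≤ f.natDegree, f.coeff (f.natDegree - j) = f.coeff j := fun j hj => by
    have := congrArg (fun g : F[X] => g.coeff j) hrev
    simp only [coeff_reverse, revAt_le hj] at this
    exact this
  have hsum : f.eval 1 = ∑ i ∈ Finset.range (f.natDegree + 1), f.coeff i := by
    rw [eval_eq_sum_range]; simp
  rcases Nat.even_or_odd' f.natDegree with ⟨d, hd | hd⟩
  · refine ⟨hm, by omega, pal, fun hmid => h1 ?_⟩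
    rw [hd, show 2 * d / 2 = d by omega] at hmid
    rw [hsum, hd, show 2 * d + 1 = d + 1 + d by omega, Finset.sum_range_add, Finset.sum_range_succ,
      hmid, add_zero, ← Finset.sum_range_reflect (fun x => f.coeff (d + 1 + x)) d]
    refine CharTwo.add_eq_zero.2 (Finset.sum_congr rfl fun j hj => ?_)
    have := Finset.mem_range.1 hj
    rw [← pal j (by omega), hd]
    congr 1
    omega
  · refine absurd ?_ h1
    rw [hsum, hd, show 2 * d + 1 + 1 = d + 1 + (d + 1) by omega, Finset.sum_range_add,
      ← Finset.sum_range_reflect (fun x => f.coeff (d + 1 + x)) (d + 1)]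
    refine CharTwo.add_eq_zero.2 (Finset.sum_congr rfl fun j hj => ?_)
    have := Finset.mem_range.1 hj
    rw [← pal j (by omega), hd]
    congr 1
    omega

variable {V : Type*} [AddCommGroup V] [Module F V]

/-- An isometry without fixed vectors has a palindromic label, with half of weight half the
dimension. -/
theorem exists_label [CharP F 2] [FiniteDimensional F V] {B : V →ₗ[F] V →ₗ[F] F}
    {G : V ≃ₗ[F] V} (h : IsIsom B G) (h1 : ∀ v, G v = v → v = 0) :
    ∃ (r : ℕ) (v : ℕ → F[X]), Module.finrank F V = 2 * r ∧ (∀ i, IsPal (v i)) ∧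
      IsLabel r (fun i => halfPoly (v i)) ∧ IsLData G v := by
  classical
  set k := Module.finrank F V with hk
  let e : V ≃ₗ[F] (Fin k → F) := (Module.finBasis F V).equivFun
  let M : Matrix (Fin k) (Fin k) F := LinearMap.toMatrix' (e.toLinearMap ∘ₗ G.toLinearMap ∘ₗ e.symm.toLinearMap)
  have hM : ∀ x, e (G x) = M.mulVec (e x) := fun x => by
    rw [LinearMap.toMatrix'_mulVec]; simp
  have hMu : IsUnit M.det := by
    rw [← Matrix.isUnit_iff_isUnit_det, ← Matrix.mulVec_injective_iff_isUnit]
    intro x y hxy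
    obtain ⟨x, rfl⟩ := e.surjective x
    obtain ⟨y, rfl⟩ := e.surjective y
    rw [← hM, ← hM] at hxy
    rw [G.injective (e.injective hxy)]
  let Be := B.compl₁₂ e.symm.toLinearMap e.symm.toLinearMap
  let J : Matrix (Fin k) (Fin k) F := LinearMap.toMatrix₂' F Be
  have hJ : IsUnit J.det := by
    rw [isUnit_iff_ne_zero]
    intro h0
    obtain ⟨v, hv0, hv⟩ := Matrix.exists_mulVec_eq_zero_iff.2 h0
    refine hv0 (e.symm.map_eq_zero_iff.1 (h.nondeg _ fun w => ?_))
    obtain ⟨u, rfl⟩ := e.symm.surjective w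
    have : B (e.symm u) (e.symm v) = dotProduct u (J.mulVec v) := by
      rw [← Matrix.toLinearMap₂'_apply', Matrix.toLinearMap₂'_toMatrix']
      rfl
    rw [h.skew, this, hv, dotProduct_zero, neg_zero]
  have hinv : M.transpose * J * M = J := by
    rw [← LinearMap.toMatrix₂'_compl₁₂]
    congr 1
    exact LinearMap.ext₂ fun x y => by simp [Be, h.inv]
  obtain ⟨D⟩ := exists_decomp M
  have hl := lab_isLabel (g := M) hMu.ne_zero
  rw [lab_eq D] at hl
  have root : ∀ j, (D.p j).eval 1 ≠ 0 := by
    intro j hroot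
    have hp : D.p j = X - C 1 := (eq_of_monic_of_associated (monic_X_sub_C 1) (D.monic j)
      ((irreducible_X_sub_C 1).associated_of_dvd (D.irred j) (dvd_iff_isRoot.2 hroot))).symm
    obtain ⟨x, hx0, hx⟩ := exists_kernel_vec D j
    refine hx0 (e.symm.map_eq_zero_iff.1 ?_)
    obtain ⟨z, rfl⟩ := e.surjective x
    rw [e.symm_apply_apply]
    rw [hp, map_sub, aeval_X, aeval_C, Matrix.sub_mulVec, sub_eq_zero, ← hM,
      Algebra.algebraMap_eq_smul_one, Matrix.smul_mulVec, Matrix.one_mulVec, ← map_smul] at hx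
    exact h1 z (by simpa using e.injective hx)
  have hpal : ∀ i, IsPal (D.label i) := fun i => isPal_of_recip (hl.monic i)
    (recip_label D J hJ hMu hinv i) (hl.coeff_zero i) (by
      show eval 1 (∏ j ∈ Finset.univ.filter (fun j => D.e j = i), D.p j) ≠ 0
      rw [eval_prod]
      exact Finset.prod_ne_zero_iff.2 fun j _ => root j)
  have hw : ∑ i ∈ Finset.range (k + 1), i * (D.label i).natDegree =
      2 * ∑ i ∈ Finset.range (k + 1), i * (halfPoly (D.label i)).natDegree := by
    rw [Finset.mul_sum]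
    refine Finset.sum_congr rfl fun i _ => ?_
    rw [(hpal i).natDegree_halfPoly]
    conv_lhs => rw [(hpal i).even]
    ring
  refine ⟨∑ i ∈ Finset.range (k + 1), i * (halfPoly (D.label i)).natDegree, D.label,
    hl.weight.symm.trans hw, hpal, ?_, k, e, M, hM, lab_eq D⟩
  refine IsLabel.of_bound (fun i => (hpal i).monic_halfPoly) (fun i => ?_)
    (by simp only [hl.at_zero, halfPoly_one]) (N := k)
    (fun i hi => by simp only [hl.at_big i hi, halfPoly_one]) rfl
  rw [coeff_halfPoly, if_pos (Nat.zero_le _), Nat.sub_zero]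
  exact (hpal i).mid

/-- Isometries without fixed vectors with the same label are isometric. -/
theorem label_intertwine [Finite F] [CharP F 2] [FiniteDimensional F V] {V' : Type*}
    [AddCommGroup V'] [Module F V'] [FiniteDimensional F V']
    {B : V →ₗ[F] V →ₗ[F] F} {G : V ≃ₗ[F] V} {B' : V' →ₗ[F] V' →ₗ[F] F} {G' : V' ≃ₗ[F] V'}
    (h : IsIsom B G) (h' : IsIsom B' G') (h1 : ∀ v, G v = v → v = 0)
    (hdim : Module.finrank F V = Module.finrank F V') {v : ℕ → F[X]}
    (hd : IsLData G v) (hd' : IsLData G' v) :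
    ∃ T : V ≃ₗ[F] V', (∀ x, T (G x) = G' (T x)) ∧ ∀ x y, B' (T x) (T y) = B x y := by
  obtain ⟨k, e, M, he, hv⟩ := hd
  obtain ⟨k', e', M', he', hv'⟩ := hd'
  obtain rfl : k = k' := by
    rw [e.finrank_eq, e'.finrank_eq, Module.finrank_fin_fun, Module.finrank_fin_fun] at hdim
    exact hdim
  obtain ⟨T₀, hT₀⟩ := Decomp.exists_intertwine (exists_decomp M).some (exists_decomp M').some
    (hv.trans hv'.symm)
  let L : V ≃ₗ[F] V' := e.trans (T₀.trans e'.symm)
  have hL : ∀ x, L (G x) = G' (L x) := fun x => by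
    apply e'.injective
    simp [L, he, he', hT₀]
  obtain ⟨T, hT, hTB⟩ := SpEven.exists_centraliser_congr (B'.compl₁₂ L.toLinearMap L.toLinearMap) B
    (fun x => h'.alt _)
    (fun x hx => L.map_eq_zero_iff.1 (h'.nondeg _ fun w => by
      obtain ⟨w, rfl⟩ := L.surjective w
      exact hx w))
    h.alt h.nondeg G (fun x y => by simp [hL, h'.inv]) h.inv h1
  exact ⟨T.trans L, fun x => by simp [hT, hL], fun x y => hTB x y⟩

end CfsgLib.SpEven
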