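import Cfsg.Agent.Lib.SpEven.Count
import Cfsg.Agent.Lib.SpEven.Label

/-!
The data of the classes of the symplectic group in characteristic two, and their number.
-/

set_option autoImplicit false
set_option linter.unusedSectionVars false

namespace CfsgLib.SpEven

open Polynomial CfsgLib.ClassNum CfsgLib.SpClassNum

variable {F V : Type*} [Field F] [CharP F 2] [AddCommGroup V] [Module F V]

/-- `G - 1`. -/
def opN (G : V ≃ₗ[F] V) : Module.End F V := G.toLinearMap - 1

/-- `G + G⁻¹`. -/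
def opS (G : V ≃ₗ[F] V) : Module.End F V := G.toLinearMap + G.symm.toLinearMap

theorem opN_apply (G : V ≃ₗ[F] V) (x : V) : opN G x = G x + x := by
  have hx : x + x = 0 := by rw [← two_smul F x, CharTwo.two_eq_zero, zero_smul]
  rw [opN, LinearMap.sub_apply, Module.End.one_apply, LinearEquiv.coe_coe, sub_eq_add_neg,
    ← eq_neg_of_add_eq_zero_left hx]

theorem upair_of_isom {B : V →ₗ[F] V →ₗ[F] F} {G : V ≃ₗ[F] V} (h : IsIsom B G)
    (hn : IsNilpotent (G.toLinearMap - 1)) : UPair B (opN G) (opS G) := by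
  have hadj : ∀ x y, B (G x) y = B x (G.symm y) := fun x y => by
    conv_lhs => rw [← G.apply_symm_apply y, h.inv]
  have hadj' : ∀ x y, B (G.symm x) y = B x (G y) := fun x y => by
    conv_rhs => rw [← G.apply_symm_apply x, h.inv]
  have two : (2 : F) = 0 := CharTwo.two_eq_zero
  refine ⟨h.alt, h.nondeg, fun x y => ?_, fun x y => ?_, fun x => ?_, fun x => ?_, hn⟩
  · simp only [opS, LinearMap.add_apply, LinearEquiv.coe_coe, map_add, hadj, hadj']
    ring
  · simp only [opN_apply, opS, LinearMap.add_apply, LinearEquiv.coe_coe, map_add, hadj]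
    linear_combination -two * B x (G y)
  · simp only [opN_apply, opS, LinearMap.add_apply, LinearEquiv.coe_coe, map_add,
      G.symm_apply_apply]
    have hx : (2 : F) • G.symm x = 0 := by rw [two, zero_smul]
    linear_combination (norm := module) -hx
  · simp only [opN_apply, opS, LinearMap.add_apply, LinearEquiv.coe_coe, map_add,
      G.symm_apply_apply, G.apply_symm_apply]
    abel

variable [FiniteDimensional F V]

/-- The data of an isometry. -/
def HasData (B : V →ₗ[F] V →ₗ[F] F) (G : V ≃ₗ[F] V) (c : F)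
    (x : Multiset Tag × (ℕ → F[X])) : Prop :=
  ∃ (P Z : Submodule F V) (hP : ∀ v ∈ P, G v ∈ P) (hZ : ∀ v ∈ Z, G v ∈ Z),
    P ⊔ Z = ⊤ ∧ (∀ a ∈ P, ∀ b ∈ Z, B a b = 0) ∧ (∀ v ∈ Z, G v = v → v = 0) ∧
    IsNilpotent ((res G P hP).toLinearMap - 1) ∧
    Dec (bres B P) (opN (res G P hP)) (opS (res G P hP)) c ⊤ x.1 ∧
    IsLData (res G Z hZ) x.2 ∧
    2 * (x.1.map tagW).sum + Module.finrank F Z = Module.finrank F V

theorem finrank_of_orth {B : V →ₗ[F] V →ₗ[F] F} {P Z : Submodule F V} (top : P ⊔ Z = ⊤)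
    (ho : ∀ a ∈ P, ∀ b ∈ Z, B a b = 0) (hn : ∀ v : P, (∀ w : P, B v w = 0) → v = 0)
    (hsym : ∀ x y, B x y = B y x) :
    Disjoint P Z ∧ Module.finrank F P + Module.finrank F Z = Module.finrank F V := by
  have hd : Disjoint P Z := Submodule.disjoint_def.2 fun v hv hv' =>
    congrArg Subtype.val (hn ⟨v, hv⟩ fun w => by rw [hsym]; exact ho w w.2 v hv')
  refine ⟨hd, ?_⟩
  have := Submodule.finrank_sup_add_finrank_inf_eq P Z
  rw [top, hd.eq_bot, finrank_top, finrank_bot, add_zero] at this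
  exact this.symm

/-- Every isometry has data. -/
theorem exists_data [Finite F] {c : F} (hc : ∀ g : F, g + g * g ≠ c) {B : V →ₗ[F] V →ₗ[F] F}
    {G : V ≃ₗ[F] V} (h : IsIsom B G) {n : ℕ} (hn : Module.finrank F V = 2 * n) :
    ∃ x : Multiset Tag × (ℕ → F[X]), (Normal x.1 ∧ (x.1.map tagW).sum ≤ n ∧ (∀ i, IsPal (x.2 i)) ∧
      IsLabel (n - (x.1.map tagW).sum) (fun i => halfPoly (x.2 i))) ∧ HasData B G c x := by
  classical
  set K := Module.finrank F V + 1 with hK
  set f : F[X] := (X - C 1) ^ K with hf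
  set P := LinearMap.ker (aeval G.toLinearMap f) with hPdef
  set Z := LinearMap.range (aeval G.toLinearMap f) with hZdef
  have haf : aeval G.toLinearMap f = (G.toLinearMap - (1 : F) • 1) ^ K := by
    simp [hf]
  have top : P ⊔ Z = ⊤ := by
    rw [hPdef, hZdef, haf]; exact ker_sup_range (Nat.le_succ _)
  have hsym : ∀ x y, B x y = B y x := fun x y => by rw [h.skew, CharTwo.neg_eq]
  have ho : ∀ a ∈ P, ∀ b ∈ Z, B a b = 0 := fun a ha b hb => by
    rw [hPdef, haf] at ha
    rw [hZdef, haf] at hb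
    rw [hsym, range_pow_perp_ker h (one_mul 1) K hb ha]
  have ho' : ∀ a ∈ Z, ∀ b ∈ P, B a b = 0 := fun a ha b hb => by rw [hsym, ho b hb a ha]
  have hP : ∀ v ∈ P, G v ∈ P := (aeval_inv G f).1
  have hZ : ∀ v ∈ Z, G v ∈ Z := (aeval_inv G f).2
  have iP := h.isIsom_res (Q := Z) (R := ⊥) hP (by rw [sup_bot_eq, top]) ho
    fun a _ b hb => by rw [(Submodule.mem_bot F).1 hb, map_zero]
  have iZ := h.isIsom_res (Q := P) (R := ⊥) hZ (by rw [sup_bot_eq, sup_comm, top]) ho'
    fun a _ b hb => by rw [(Submodule.mem_bot F).1 hb, map_zero]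
  have nP : IsNilpotent ((res G P hP).toLinearMap - 1) := ⟨K, LinearMap.ext fun v => Subtype.ext (by
    have e : ∀ (k : ℕ) (v : P), ((((res G P hP).toLinearMap - 1) ^ k) v : V) =
        ((G.toLinearMap - (1 : F) • 1) ^ k) v := by
      intro k
      induction k with
      | zero => intro v; rfl
      | succ k ih =>
        intro v
        simp only [pow_succ', Module.End.mul_apply, LinearMap.sub_apply, Module.End.one_apply,
          LinearEquiv.coe_coe, Submodule.coe_sub, coe_res, ih, one_smul]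
    rw [e, ← haf]
    exact v.2)⟩
  have z1 : ∀ v ∈ Z, G v = v → v = 0 := fun v hv hfix => by
    refine congrArg Subtype.val (iZ.nondeg ⟨v, hv⟩ fun w => ?_)
    refine ho v ?_ w w.2
    rw [hPdef, LinearMap.mem_ker, haf, pow_succ, Module.End.mul_apply]
    simp [hfix]
  obtain ⟨l, hl, hd, hsum⟩ := exists_normal_dec (upair_of_isom iP nP) hc
  obtain ⟨r, v, hr, hpal, hlab, hld⟩ := exists_label iZ
    fun w hw => Subtype.ext (z1 w w.2 (congrArg Subtype.val hw))
  have hdim := (finrank_of_orth top ho (fun v hv => iP.nondeg v hv) hsym).2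
  rw [← hsum, sum_sizes, hn, hr] at hdim
  exact ⟨(l, v), ⟨hl, by show (l.map tagW).sum ≤ n; omega, hpal,
    (show n - (l.map tagW).sum = r by omega) ▸ hlab⟩,
    P, Z, hP, hZ, top, ho, z1, nP, hd, hld, by show 2 * (l.map tagW).sum + _ = _; omega⟩

/-- Isometries with the same data are conjugate by an isometry. -/
theorem data_intertwine [Finite F] {c : F} {B : V →ₗ[F] V →ₗ[F] F} {G G' : V ≃ₗ[F] V}
    (h : IsIsom B G) (h' : IsIsom B G') {x : Multiset Tag × (ℕ → F[X])}
    (hx : HasData B G c x) (hx' : HasData B G' c x) :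
    ∃ T : V ≃ₗ[F] V, (∀ v, T (G v) = G' (T v)) ∧ ∀ v w, B (T v) (T w) = B v w := by
  obtain ⟨P, Z, hP, hZ, top, ho, z1, nP, hd, hld, hdim⟩ := hx
  obtain ⟨P', Z', hP', hZ', top', ho', z1', nP', hd', hld', hdim'⟩ := hx'
  have hsym : ∀ x y, B x y = B y x := fun x y => by rw [h.skew, CharTwo.neg_eq]
  have bot0 : ∀ {A : Submodule F V}, ∀ a ∈ A, ∀ b ∈ (⊥ : Submodule F V), B a b = 0 :=
    fun a _ b hb => by rw [(Submodule.mem_bot F).1 hb, map_zero]
  have flip : ∀ {A C : Submodule F V}, (∀ a ∈ A, ∀ b ∈ C, B a b = 0) → ∀ a ∈ C, ∀ b ∈ A, B a b = 0 :=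
    fun ho a ha b hb => by rw [hsym, ho b hb a ha]
  have iP := h.isIsom_res (Q := Z) (R := ⊥) hP (by rw [sup_bot_eq, top]) ho bot0
  have iP' := h'.isIsom_res (Q := Z') (R := ⊥) hP' (by rw [sup_bot_eq, top']) ho' bot0
  have iZ := h.isIsom_res (Q := P) (R := ⊥) hZ (by rw [sup_bot_eq, sup_comm, top]) (flip ho) bot0
  have iZ' := h'.isIsom_res (Q := P') (R := ⊥) hZ' (by rw [sup_bot_eq, sup_comm, top']) (flip ho') bot0
  obtain ⟨TP, hTP, bTP⟩ := Dec.exists_intertwine (upair_of_isom iP nP) (upair_of_isom iP' nP') hd hd'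
  obtain ⟨TZ, hTZ, bTZ⟩ := label_intertwine iZ iZ'
    (fun w hw => Subtype.ext (z1 w w.2 (congrArg Subtype.val hw))) (by omega) hld hld'
  have hTG : ∀ a : P, TP (res G P hP a) = res G' P' hP' (TP a) := fun a => by
    have := hTP a
    rw [opN_apply, opN_apply, map_add] at this
    exact add_right_cancel this
  have bij : ∀ {A C : Submodule F V}, A ⊔ C = ⊤ → Disjoint A C →
      Function.Bijective (A.subtype.coprod C.subtype) := fun {A C} ht hd => by
    refine ⟨(injective_iff_map_eq_zero _).2 ?_, fun w => ?_⟩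
    · rintro ⟨a, b⟩ hab
      replace hab : (a : V) + b = 0 := hab
      have ha : (a : V) = 0 := Submodule.disjoint_def.1 hd _ a.2 (by
        rw [eq_neg_of_add_eq_zero_left hab]; exact C.neg_mem b.2)
      rw [ha, zero_add] at hab
      exact Prod.ext (Subtype.ext ha) (Subtype.ext hab)
    · obtain ⟨a, ha, b, hb, rfl⟩ := Submodule.mem_sup.1 (ht ▸ Submodule.mem_top : w ∈ A ⊔ C)
      exact ⟨(⟨a, ha⟩, ⟨b, hb⟩), rfl⟩
  let Φ := LinearEquiv.ofBijective _ (bij top (finrank_of_orth top ho (fun v hv => iP.nondeg v hv) hsym).1)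
  let Φ' := LinearEquiv.ofBijective _
    (bij top' (finrank_of_orth top' ho' (fun v hv => iP'.nondeg v hv) hsym).1)
  refine ⟨Φ.symm.trans ((TP.prodCongr TZ).trans Φ'), fun v => ?_, fun v w => ?_⟩
  · obtain ⟨⟨a, b⟩, rfl⟩ := Φ.surjective v
    have e : G (Φ (a, b)) = Φ (res G P hP a, res G Z hZ b) := by
      show G ((a : V) + b) = G a + G b
      rw [map_add]
    rw [e]
    simp only [LinearEquiv.trans_apply, LinearEquiv.symm_apply_apply]
    show (TP (res G P hP a) : V) + TZ (res G Z hZ b) = G' ((TP a : V) + TZ b)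
    rw [hTG, hTZ, coe_res, coe_res, map_add]
  · obtain ⟨⟨a, b⟩, rfl⟩ := Φ.surjective v
    obtain ⟨⟨a', b'⟩, rfl⟩ := Φ.surjective w
    simp only [LinearEquiv.trans_apply, LinearEquiv.symm_apply_apply]
    show B ((TP a : V) + TZ b) ((TP a' : V) + TZ b') = B ((a : V) + b) ((a' : V) + b')
    have e1 : B (TP a : V) (TP a') = B (a : V) a' := bTP a a'
    have e3 : B (TZ b : V) (TZ b') = B (b : V) b' := bTZ b b'
    simp only [map_add, LinearMap.add_apply, e1, e3, ho _ a.2 _ b'.2, flip ho _ b.2 _ a'.2,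
      ho' _ (TP a).2 _ (TZ b').2, flip ho' _ (TZ b).2 _ (TP a').2]

open Classical in
/-- The number of classes described by the data is bounded. -/
theorem card_data_le [Fintype F] (m : ℕ) {C : Type*} [Fintype C]
    (D : C → Multiset Tag × (ℕ → F[X]))
    (hD : ∀ x, Normal (D x).1 ∧ ((D x).1.map tagW).sum ≤ m + 1 ∧ (∀ i, IsPal ((D x).2 i)) ∧
      IsLabel (m + 1 - ((D x).1.map tagW).sum) (fun i => halfPoly ((D x).2 i)))
    (hinj : Function.Injective D) :
    5 * Nat.card C ≤ 76 * Fintype.card F ^ (m + 1) := by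
  have hq : 2 ≤ Fintype.card F := Fintype.one_lt_card
  let K : Finset (Code m × (ℕ → F[X])) :=
    (codes m).biUnion fun x => {x} ×ˢ labels F (m + 1 - codeW x)
  have hK : K.card ≤ ∑ x ∈ codes m, Fintype.card F ^ (m + 1 - codeW x) := by
    refine Finset.card_biUnion_le.trans (Finset.sum_le_sum fun x _ => ?_)
    rw [Finset.card_product, Finset.card_singleton, one_mul]
    refine (card_labels_le _).trans ?_
    rcases Nat.eq_zero_or_pos (m + 1 - codeW x) with h0 | hpos
    · simp [h0, bCount]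
    · have := bCount_lt (show 1 ≤ Fintype.card F by omega) _ hpos
      omega
  suffices hC : Nat.card C ≤ K.card by
    have := sum_bound hq m
    omega
  rw [Nat.card_eq_fintype_card, ← Finset.card_univ]
  refine Finset.card_le_card_of_injOn (fun x => (code m (D x).1, fun i => halfPoly ((D x).2 i)))
    (fun x _ => ?_) fun x _ x' _ hxx => hinj ?_
  · obtain ⟨hl, hw, -, hlab⟩ := hD x
    obtain ⟨h1, h2⟩ := code_spec hl hw
    exact Finset.mem_biUnion.2 ⟨_, h1, Finset.mem_product.2 ⟨Finset.mem_singleton_self _,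
      mem_labels.2 (h2.symm ▸ hlab)⟩⟩
  · simp only [Prod.mk.injEq] at hxx
    obtain ⟨hl, hw, hp, -⟩ := hD x
    obtain ⟨hl', hw', hp', -⟩ := hD x'
    exact Prod.ext (code_inj hl hl' hw hw' hxx.1)
      (funext fun i => (hp i).eq_of_halfPoly (hp' i) (congrFun hxx.2 i))

end CfsgLib.SpEven
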