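import Cfsg.Agent.Lib.SpEven.Blocks

/-!
Decompositions exist, blocks can be exchanged, and decompositions with the same types are isometric.
-/

set_option autoImplicit false
set_option linter.unusedSectionVars false

namespace CfsgLib.SpEven

open CfsgLib.LinFix CfsgLib.SpClassNum

variable {F V V' : Type*} [Field F] [AddCommGroup V] [Module F V] [AddCommGroup V'] [Module F V']
  {B : V →ₗ[F] V →ₗ[F] F} {N S : Module.End F V} {c : F}

/-- The vectors orthogonal to a subspace. -/
def perp (B : V →ₗ[F] V →ₗ[F] F) (U : Submodule F V) : Submodule F V where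
  carrier := {v | ∀ u ∈ U, B u v = 0}
  add_mem' ha hb u hu := by rw [map_add, ha u hu, hb u hu, add_zero]
  zero_mem' u _ := map_zero _
  smul_mem' a v hv u hu := by rw [map_smul, hv u hu, smul_zero]

variable [CharP F 2] (h : UPair B N S)

section restrict

variable {U : Submodule F V} (hN : Inv N U)

theorem coe_restrict_pow {T : Module.End F V} (hT : Inv T U) (i : ℕ) :
    ∀ x : U, (((T.restrict hT) ^ i) x : V) = (T ^ i) x := by
  induction i with
  | zero => intro x; rfl
  | succ i ih =>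
    intro x
    rw [pow_succ', pow_succ', Module.End.mul_apply, Module.End.mul_apply, ← ih]
    rfl

include h in
theorem UPair.restrict (hnd : ∀ v ∈ U, (∀ w ∈ U, B v w = 0) → v = 0) :
    UPair (bres B U) (N.restrict hN) (S.restrict (h.inv_S hN)) where
  alt v := h.alt _
  nondeg v hv := Subtype.ext (hnd v v.2 fun w hw => hv ⟨w, hw⟩)
  adjS x y := h.adjS _ _
  adjN x y := h.adjN _ _
  sq x := Subtype.ext (h.sq _)
  comm x := Subtype.ext (h.comm _)
  nil := by
    obtain ⟨K, hK⟩ := h.nil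
    refine ⟨K, LinearMap.ext fun x => Subtype.ext ?_⟩
    rw [coe_restrict_pow, hK]
    rfl

include h in
theorem psi_res (x y : U) (i : ℕ) :
    psi (bres B U) (S.restrict (h.inv_S hN)) x y i = psi B S x y i := by
  simp [psi, bres, coe_restrict_pow]

include h in
theorem chi_res (x y : U) (i : ℕ) :
    chi (bres B U) (N.restrict hN) (S.restrict (h.inv_S hN)) x y i = chi B N S x y i := by
  simp [chi, bres, coe_restrict_pow]
  rfl

include h in
theorem vgen_res_iff (m : ℕ) (e : Bool) (x : U) :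
    VGen (bres B U) (N.restrict hN) (S.restrict (h.inv_S hN)) c m e x ↔ VGen B N S c m e x := by
  refine ⟨fun H => ⟨H.pos, ?_, H.flag, fun i => ?_⟩, fun H => ⟨H.pos, Subtype.ext ?_, H.flag, fun i => ?_⟩⟩
  · rw [← coe_restrict_pow (h.inv_S hN), H.cap]; rfl
  · rw [← chi_res h hN, H.phi]
  · rw [coe_restrict_pow, H.cap]; rfl
  · rw [chi_res h hN, H.phi]

include h in
theorem egen_res_iff (m : ℕ) (x y : U) :
    EGen (bres B U) (N.restrict hN) (S.restrict (h.inv_S hN)) m x y ↔ EGen B N S m x y := by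
  refine ⟨fun H => ⟨H.pos, ?_, ?_, fun i => ?_, fun i => ?_, fun i => ?_, fun i => ?_⟩,
    fun H => ⟨H.pos, Subtype.ext ?_, Subtype.ext ?_, fun i => ?_, fun i => ?_, fun i => ?_, fun i => ?_⟩⟩
  · rw [← coe_restrict_pow (h.inv_S hN), H.capx]; rfl
  · rw [← coe_restrict_pow (h.inv_S hN), H.capy]; rfl
  · rw [← chi_res h hN, H.phix]
  · rw [← chi_res h hN, H.phiy]
  · rw [← psi_res h hN, H.psixy]
  · rw [← chi_res h hN, H.chixy]
  · rw [coe_restrict_pow, H.capx]; rfl
  · rw [coe_restrict_pow, H.capy]; rfl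
  · rw [chi_res h hN, H.phix]
  · rw [chi_res h hN, H.phiy]
  · rw [psi_res h hN, H.psixy]
  · rw [chi_res h hN, H.chixy]

include h in
theorem ogen_res_iff (m : ℕ) (e : Bool) (x y : U) :
    OGen (bres B U) (N.restrict hN) (S.restrict (h.inv_S hN)) c m e x y ↔ OGen B N S c m e x y := by
  refine ⟨fun H => ⟨?_, ?_, H.flag, fun i => ?_, fun i => ?_, fun i => ?_, fun i => ?_⟩,
    fun H => ⟨Subtype.ext ?_, Subtype.ext ?_, H.flag, fun i => ?_, fun i => ?_, fun i => ?_, fun i => ?_⟩⟩
  · have := congrArg Subtype.val H.capx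
    rwa [coe_restrict_pow] at this
  · have := congrArg Subtype.val H.capy
    rwa [coe_restrict_pow] at this
  · rw [← chi_res h hN, H.phix]
  · rw [← chi_res h hN, H.phiy]
  · rw [← psi_res h hN, H.psixy]
  · rw [← chi_res h hN, H.chixy]
  · rw [coe_restrict_pow]; exact H.capx
  · rw [coe_restrict_pow]; exact H.capy
  · rw [chi_res h hN, H.phix]
  · rw [chi_res h hN, H.phiy]
  · rw [psi_res h hN, H.psixy]
  · rw [chi_res h hN, H.chixy]

include h in
theorem gen_res_iff (t : Tag) (g : Fin t.rk → U) :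
    Gen (bres B U) (N.restrict hN) (S.restrict (h.inv_S hN)) c t g ↔
      Gen B N S c t (fun a => (g a : V)) := by
  cases t with
  | v m e => exact vgen_res_iff h hN m e _
  | w k e =>
    simp only [Gen]
    split_ifs
    · exact and_congr_right fun _ => egen_res_iff h hN _ _ _
    · exact ogen_res_iff h hN _ _ _ _

end restrict

theorem gen_v {m : ℕ} {e : Bool} {x : V} (hx : VGen B N S c m e x) :
    Gen B N S c (.v m e) (fun _ => x) := hx

theorem gen_w_even {m : ℕ} {x y : V} (hxy : EGen B N S m x y) :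
    Gen B N S c (.w (2 * m) false) (fun a => if (a : ℕ) = 0 then x else y) := by
  simp only [Gen]
  rw [if_pos (by omega), show 2 * m / 2 = m by omega]
  exact ⟨by trivial, by simpa using hxy⟩

theorem gen_w_odd {m : ℕ} {e : Bool} {x y : V} (hxy : OGen B N S c m e x y) :
    Gen B N S c (.w (2 * m + 1) e) (fun a => if (a : ℕ) = 0 then x else y) := by
  simp only [Gen]
  rw [if_neg (by omega), show (2 * m + 1) / 2 = m by omega]
  simpa using hxy

theorem Gen.to_ogen {m : ℕ} {e : Bool} {g : Fin (Tag.w (2 * m + 1) e).rk → V}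
    (hg : Gen B N S c (.w (2 * m + 1) e) g) :
    OGen B N S c m e (g ⟨0, Nat.two_pos⟩) (g ⟨1, Nat.one_lt_two⟩) := by
  simp only [Gen] at hg
  rwa [if_neg (by omega), show (2 * m + 1) / 2 = m by omega] at hg

include h in
/-- A non-zero space contains a normal block. -/
theorem exists_gen [Finite F] [Nontrivial V] (hc : ∀ g : F, g + g * g ≠ c) :
    ∃ t g, Gen B N S c t g := by
  classical
  have hk := Nat.find_spec h.nil
  set k := Nat.find h.nil with hk'
  have hk0 : k ≠ 0 := fun e => by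
    rw [e, pow_zero] at hk
    obtain ⟨a, b, hab⟩ := exists_pair_ne V
    exact hab ((LinearMap.congr_fun hk a).trans (LinearMap.congr_fun hk b).symm)
  obtain ⟨x, hx⟩ : ∃ x, (N ^ (k - 1)) x ≠ 0 := by
    by_contra hn
    push Not at hn
    exact Nat.find_min h.nil (show k - 1 < Nat.find h.nil by omega) (LinearMap.ext hn)
  rcases Nat.even_or_odd' k with ⟨m, hm | hm⟩
  · have hcap : ∀ z, (S ^ m) z = 0 := fun z => (h.pow_two_mul_eq_zero_iff m z).1 (by
      rw [← hm, hk]; rfl)
    have hm1 : 1 ≤ m := by omega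
    by_cases hz : ∃ z, chi B N S z z (m - 1) ≠ 0
    · obtain ⟨z, hz⟩ := hz
      obtain ⟨e, z', hz'⟩ := vgen_of_vec h hc hm1 (hcap z) hz
      exact ⟨_, _, gen_v hz'⟩
    · push Not at hz
      rw [show k - 1 = 2 * (m - 1) + 1 by omega, ne_eq, h.pow_odd_eq_zero_iff] at hx
      obtain ⟨y, hy⟩ : ∃ y, chi B N S y x (m - 1) ≠ 0 := by
        by_contra hn
        push Not at hn
        exact hx (h.nondeg _ fun y => by rw [h.symm]; exact hn y)
      obtain ⟨a, b, hab⟩ := egen_of_top h hm1 (hcap y) (hcap x) (hz y) (hz x) hy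
      exact ⟨_, _, gen_w_even hab⟩
  · have hcap : ∀ z, (S ^ m) (N z) = 0 := fun z => (h.pow_odd_eq_zero_iff m z).1 (by
      rw [← hm, hk]; rfl)
    rw [show k - 1 = 2 * m by omega, ne_eq, h.pow_two_mul_eq_zero_iff] at hx
    obtain ⟨y, hy⟩ : ∃ y, psi B S y x m ≠ 0 := by
      by_contra hn
      push Not at hn
      exact hx (h.nondeg _ fun y => by rw [h.symm]; exact hn y)
    obtain ⟨e, a, b, hab⟩ := ogen_of_pair h hc (hcap y) (hcap x) hy
    exact ⟨_, _, gen_w_odd hab⟩

theorem Gen.ex_pos {t : Tag} {g : Fin t.rk → V} (hg : Gen B N S c t g) : 0 < t.ex := by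
  have := hg.valid
  cases t with
  | v m e => have := this.1; simp only [Tag.ex]; omega
  | w k e => exact this.1

theorem Gen.mem_blk {t : Tag} {g : Fin t.rk → V} (hg : Gen B N S c t g) (a : Fin t.rk) :
    g a ∈ blk N t g :=
  Submodule.subset_span ⟨(⟨0, hg.ex_pos⟩, a), rfl⟩

theorem blk_le {W : Submodule F V} {t : Tag} {g : Fin t.rk → V} (hW : Inv N W)
    (hg : ∀ a, g a ∈ W) : blk N t g ≤ W :=
  Submodule.span_le.2 (by rintro _ ⟨p, rfl⟩; exact hW.pow _ _ (hg p.2))

include h in
theorem split_blk {W : Submodule F V} (hW : Inv N W)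
    (hnd : ∀ v ∈ W, (∀ w ∈ W, B v w = 0) → v = 0) {t : Tag} {g : Fin t.rk → V}
    (hg : Gen B N S c t g) (hgW : ∀ a, g a ∈ W) :
    Inv N (W ⊓ perp B (blk N t g)) ∧
      (∀ v ∈ W ⊓ perp B (blk N t g), (∀ w ∈ W ⊓ perp B (blk N t g), B v w = 0) → v = 0) ∧
      blk N t g ⊔ (W ⊓ perp B (blk N t g)) = W := by
  have hb := blk_le hW hgW
  have hperp : Inv N (W ⊓ perp B (blk N t g)) := fun v hv => ⟨hW v hv.1, fun u hu => by
    have h1 := h.adjN u v
    rw [hv.2 _ (hg.inv h u hu), ← h.adjS, hv.2 _ (h.inv_S (hg.inv h) u hu), add_zero] at h1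
    exact h1.symm⟩
  have hsup : blk N t g ⊔ (W ⊓ perp B (blk N t g)) = W := by
    refine le_antisymm (sup_le hb inf_le_left) fun w hw => ?_
    let Φ := Fintype.linearCombination F (fam N t g)
    let M : (Fin t.ex × Fin t.rk → F) →ₗ[F] (Fin t.ex × Fin t.rk → F) :=
      LinearMap.pi fun q => (B.flip (fam N t g q)).comp Φ
    have hM : Function.Injective M := (injective_iff_map_eq_zero _).2 fun cc hcc =>
      hg.gram h cc fun q => by
        simpa [M, Φ, Fintype.linearCombination_apply] using congrFun hcc q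
    obtain ⟨cc, hcc⟩ := (LinearMap.injective_iff_surjective.1 hM) fun q => B w (fam N t g q)
    have hΦ : Φ cc ∈ blk N t g := by
      rw [show Φ cc = ∑ p, cc p • fam N t g p from Fintype.linearCombination_apply F _ cc]
      exact Submodule.sum_mem _ fun p _ => Submodule.smul_mem _ _ (Submodule.subset_span ⟨p, rfl⟩)
    refine Submodule.mem_sup.2 ⟨Φ cc, hΦ, w - Φ cc, ⟨W.sub_mem hw (hb hΦ), fun u hu => ?_⟩,
      add_sub_cancel _ _⟩
    obtain ⟨dd, rfl⟩ := (Submodule.mem_span_range_iff_exists_fun F).1 hu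
    rw [map_sum, LinearMap.sum_apply]
    refine Finset.sum_eq_zero fun q _ => ?_
    rw [map_smul, LinearMap.smul_apply, map_sub, h.symm (fam N t g q) w,
      h.symm (fam N t g q) (Φ cc), ← congrFun hcc q]
    simp [M]
  refine ⟨hperp, fun v hv hv' => hnd v hv.1 fun w hw => ?_, hsup⟩
  obtain ⟨b, hb', w', hw', rfl⟩ := Submodule.mem_sup.1 (hsup ▸ hw)
  rw [map_add, h.symm v b, hv.2 b hb', hv' w' hw', add_zero]

include h in
/-- Every invariant non-degenerate subspace decomposes. -/
theorem exists_dec [Finite F] [FiniteDimensional F V] (hc : ∀ g : F, g + g * g ≠ c) :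
    ∀ W : Submodule F V, Inv N W → (∀ v ∈ W, (∀ w ∈ W, B v w = 0) → v = 0) →
      ∃ l, Dec B N S c W l := by
  intro W
  induction hd : Module.finrank F W using Nat.strong_induction_on generalizing W with
  | _ d ih =>
    intro hW hnd
    rcases eq_or_ne W ⊥ with rfl | hne
    · exact ⟨0, .zero⟩
    haveI : Nontrivial W := Submodule.nontrivial_iff_ne_bot.2 hne
    obtain ⟨t, g, hg⟩ := exists_gen (h.restrict hW hnd) hc
    rw [gen_res_iff h hW] at hg
    obtain ⟨h1, h2, h3⟩ := split_blk h hW hnd hg fun a => (g a).2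
    have hlt : W ⊓ perp B (blk N t fun a => (g a : V)) < W := by
      refine inf_le_left.lt_of_ne fun he => ?_
      have hp : ∀ v ∈ W, v ∈ perp B (blk N t fun a => (g a : V)) := fun v hv =>
        (he.symm ▸ hv : v ∈ W ⊓ perp B (blk N t fun a => (g a : V))).2
      have ha : 0 < t.rk := by cases t <;> simp [Tag.rk]
      have h0 := hg.nondeg h (hg.mem_blk ⟨0, ha⟩) fun w hw => by
        rw [h.symm]; exact hp _ (g ⟨0, ha⟩).2 w hw
      exact (hg.linearIndependent h).ne_zero (⟨0, hg.ex_pos⟩, ⟨0, ha⟩) (by simpa [fam] using h0)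
    obtain ⟨l, hl⟩ := ih _ (hd ▸ Submodule.finrank_lt_finrank_of_lt hlt) _ rfl h1 h2
    exact ⟨t ::ₘ l, h3 ▸ .cons hg hl fun x hx w hw => hw.2 x hx⟩

theorem sizes_pos {l : Multiset Tag} (hl : ∀ t ∈ l, t.Valid) : ∀ a ∈ sizes l, 0 < a := by
  induction l using Multiset.induction with
  | empty => simp
  | cons t l ih =>
    intro a ha
    rw [sizes_cons, Multiset.mem_add] at ha
    rcases ha with h' | h'
    · rw [Multiset.eq_of_mem_replicate h']
      have hv := hl t (Multiset.mem_cons_self t l)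
      cases t with
      | v m e => have := hv.1; simp only [Tag.ex]; omega
      | w k e => exact hv.1
    · exact ih (fun t ht => hl t (Multiset.mem_cons_of_mem ht)) a h'

include h in
/-- A block found inside some of the blocks can replace them. -/
theorem Dec.replace [Finite F] [FiniteDimensional F V] (hc : ∀ g : F, g + g * g ≠ c)
    {W : Submodule F V} {l₀ rest : Multiset Tag} (hd : Dec B N S c W (l₀ + rest)) {t : Tag}
    (hfind : ∀ U : Submodule F V, Inv N U → (∀ v ∈ U, (∀ w ∈ U, B v w = 0) → v = 0) →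
      Dec B N S c U l₀ → ∃ g, Gen B N S c t g ∧ ∀ a, g a ∈ U) :
    ∃ l', sizes (t ::ₘ l') = sizes l₀ ∧ Dec B N S c W (t ::ₘ l' + rest) := by
  obtain ⟨U, U', hU, hU', hsup, ho⟩ := hd.split h l₀ rest rfl
  obtain ⟨hUi, hUn⟩ := hU.inv_nondeg h
  obtain ⟨g, hg, hgU⟩ := hfind U hUi hUn hU
  obtain ⟨h1, h2, h3⟩ := split_blk h hUi hUn hg hgU
  obtain ⟨l', hl'⟩ := exists_dec h hc _ h1 h2
  have hnew : Dec B N S c U (t ::ₘ l') := h3 ▸ .cons hg hl' fun x hx w hw => hw.2 x hx
  refine ⟨l', eq_of_blockRank (sizes_pos hnew.valid) (sizes_pos hU.valid) fun j => ?_,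
    hsup ▸ hnew.union hU' ho⟩
  rw [← hnew.finrank_map h, ← hU.finrank_map h]

variable {B' : V' →ₗ[F] V' →ₗ[F] F} {N' S' : Module.End F V'} (h' : UPair B' N' S')

theorem fam_step {t : Tag} {u : Fin t.rk → V} (hu : ∀ a, (N ^ t.ex) (u a) = 0)
    (p : Fin t.ex × Fin t.rk) : N (fam N t u p) =
      (if hi : (p.1 : ℕ) + 1 < t.ex then some (⟨(p.1 : ℕ) + 1, hi⟩, p.2) else none).elim
        0 (fam N t u) := by
  by_cases hi : (p.1 : ℕ) + 1 < t.ex
  · rw [dif_pos hi, Option.elim_some, fam, fam, ← Module.End.mul_apply, ← pow_succ']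
  · have := p.1.2
    rw [dif_neg hi, Option.elim_none, fam, ← Module.End.mul_apply, ← pow_succ',
      show (p.1 : ℕ) + 1 = t.ex by omega, hu]

include h h' in
theorem Dec.exists_families {W : Submodule F V} {l : Multiset Tag} (hd : Dec B N S c W l) :
    ∀ {W' : Submodule F V'}, Dec B' N' S' c W' l →
      ∃ (ι : Type) (_ : Fintype ι) (f : ι → V) (f' : ι → V') (σ : ι → Option ι),
        Submodule.span F (Set.range f) = W ∧ Submodule.span F (Set.range f') = W' ∧
        (∀ i j, B (f i) (f j) = B' (f' i) (f' j)) ∧ (∀ i, N (f i) = (σ i).elim 0 f) ∧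
        ∀ i, N' (f' i) = (σ i).elim 0 f' := by
  induction hd with
  | zero =>
    intro W' hW'
    exact ⟨Empty, inferInstance, Empty.elim, Empty.elim, Empty.elim, by simp,
      by rw [hW'.eq_bot rfl]; simp, fun i => i.elim, fun i => i.elim, fun i => i.elim⟩
  | @cons t g W l hg _ hgW ih =>
    intro W' hW'
    obtain ⟨U, U', hU, hU', hsup, ho⟩ := hW'.split h' {t} l (Multiset.singleton_add t l).symm
    obtain ⟨g', hg', rfl⟩ := hU.single
    obtain ⟨ι, _, f, f', σ, hs, hs', hgram, hσ, hσ'⟩ := ih hU'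
    refine ⟨(Fin t.ex × Fin t.rk) ⊕ ι, inferInstance, Sum.elim (fam N t g) f,
      Sum.elim (fam N' t g') f',
      Sum.elim (fun p => (if hi : (p.1 : ℕ) + 1 < t.ex then some (⟨(p.1 : ℕ) + 1, hi⟩, p.2) else none).map
        Sum.inl) (fun i => (σ i).map Sum.inr), ?_, ?_, ?_, ?_, ?_⟩
    · rw [Set.Sum.elim_range, Submodule.span_union, hs]; rfl
    · rw [Set.Sum.elim_range, Submodule.span_union, hs', ← hsup]; rfl
    · have hf : ∀ i, f i ∈ W := fun i => hs ▸ Submodule.subset_span ⟨i, rfl⟩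
      have hf' : ∀ i, f' i ∈ U' := fun i => hs' ▸ Submodule.subset_span ⟨i, rfl⟩
      have hm : ∀ p, fam N t g p ∈ blk N t g := fun p => Submodule.subset_span ⟨p, rfl⟩
      have hm' : ∀ p, fam N' t g' p ∈ blk N' t g' := fun p => Submodule.subset_span ⟨p, rfl⟩
      rintro (p | i) (q | j)
      · exact pair_congr h h' (hg.data_eq h h' hg' p.2 q.2) _ _
      · exact (hgW _ (hm p) _ (hf j)).trans (ho _ (hm' p) _ (hf' j)).symm
      · simp only [Sum.elim_inl, Sum.elim_inr]
        rw [h.symm, hgW _ (hm q) _ (hf i), h'.symm, ho _ (hm' q) _ (hf' i)]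
      · exact hgram i j
    · rintro (p | i)
      · simp only [Sum.elim_inl]
        rw [fam_step (hg.core h).1]
        by_cases hi : (p.1 : ℕ) + 1 < t.ex <;> simp [hi]
      · simp only [Sum.elim_inr]
        rw [hσ]
        cases σ i <;> rfl
    · rintro (p | i)
      · simp only [Sum.elim_inl]
        rw [fam_step (hg'.core h').1]
        by_cases hi : (p.1 : ℕ) + 1 < t.ex <;> simp [hi]
      · simp only [Sum.elim_inr]
        rw [hσ']
        cases σ i <;> rfl

include h h' in
/-- Decompositions with the same types give an intertwining isometry. -/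
theorem Dec.exists_intertwine {l : Multiset Tag} (hd : Dec B N S c ⊤ l)
    (hd' : Dec B' N' S' c ⊤ l) :
    ∃ T : V ≃ₗ[F] V', (∀ v, T (N v) = N' (T v)) ∧ ∀ v w, B' (T v) (T w) = B v w := by
  obtain ⟨ι, _, f, f', σ, hs, hs', hgram, hσ, hσ'⟩ := hd.exists_families h h' hd'
  classical
  let Φ := Fintype.linearCombination F f
  let Ψ := Fintype.linearCombination F f'
  have hΦ : Function.Surjective Φ := LinearMap.range_eq_top.1 (by
    rw [Fintype.range_linearCombination, hs])
  have hΨ : Function.Surjective Ψ := LinearMap.range_eq_top.1 (by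
    rw [Fintype.range_linearCombination, hs'])
  have hpair : ∀ a b, B (Φ a) (Φ b) = B' (Ψ a) (Ψ b) := fun a b => by
    simp only [Φ, Ψ, Fintype.linearCombination_apply, map_sum, map_smul, LinearMap.sum_apply,
      LinearMap.smul_apply, hgram]
  have hker : ∀ a, Φ a = 0 ↔ Ψ a = 0 := fun a => by
    refine ⟨fun ha => h'.nondeg _ fun w => ?_, fun ha => h.nondeg _ fun w => ?_⟩
    · obtain ⟨b, rfl⟩ := hΨ w
      rw [← hpair, ha, map_zero, LinearMap.zero_apply]
    · obtain ⟨b, rfl⟩ := hΦ w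
      rw [hpair, ha, map_zero, LinearMap.zero_apply]
  obtain ⟨s, hs''⟩ := Φ.exists_rightInverse_of_surjective (LinearMap.range_eq_top.2 hΦ)
  have hsec : ∀ v, Φ (s v) = v := LinearMap.congr_fun hs''
  let T₀ : V →ₗ[F] V' := Ψ.comp s
  have hT : ∀ a, T₀ (Φ a) = Ψ a := fun a => by
    have := (hker (s (Φ a) - a)).1 (by rw [map_sub, hsec, sub_self])
    rw [map_sub, sub_eq_zero] at this
    exact this
  have hbij : Function.Bijective T₀ := by
    refine ⟨(injective_iff_map_eq_zero _).2 fun v hv => ?_, fun w => ?_⟩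
    · rw [← hsec v]; exact (hker _).2 hv
    · obtain ⟨a, rfl⟩ := hΨ w; exact ⟨Φ a, hT a⟩
  refine ⟨LinearEquiv.ofBijective T₀ hbij, fun v => ?_, fun v w => ?_⟩
  · simp only [LinearEquiv.ofBijective_apply]
    have hone : ∀ i, T₀ (f i) = f' i := fun i => by
      have := hT (Pi.single i 1)
      simpa [Φ, Ψ, Fintype.linearCombination_apply_single] using this
    have hgen : ∀ i, T₀ (N (f i)) = N' (T₀ (f i)) := fun i => by
      rw [hone, hσ, hσ']
      cases σ i with
      | none => simp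
      | some j => exact hone j
    obtain ⟨a, rfl⟩ := hΦ v
    simp only [Φ, Fintype.linearCombination_apply, map_sum, map_smul, hgen]
  · simp only [LinearEquiv.ofBijective_apply]
    obtain ⟨a, rfl⟩ := hΦ v
    obtain ⟨b, rfl⟩ := hΦ w
    rw [hT, hT, hpair]

end CfsgLib.SpEven
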