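import Cfsg.Agent.Lib.SpEven.Normal

/-!
Normal generators exist, and five combinations of normal generators contain a better one.
-/

set_option autoImplicit false
set_option linter.unusedSectionVars false

namespace CfsgLib.SpEven

section field

variable {F : Type*} [Field F] [CharP F 2]

theorem exists_sqrt [Finite F] (a : F) : ∃ b : F, b * b = a := by
  haveI : Fact (Nat.Prime 2) := ⟨Nat.prime_two⟩
  obtain ⟨b, hb⟩ := (Finite.injective_iff_surjective.1 (frobenius F 2).injective) a
  exact ⟨b, by rw [← hb, frobenius_def, pow_two]⟩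

/-- The Artin–Schreier map. -/
def asMap : F →+ F where
  toFun g := g + g * g
  map_zero' := by simp
  map_add' g g' := by
    linear_combination CharTwo.two_eq_zero (R := F) * (g * g')

theorem asMap_not_surjective [Finite F] : ¬ Function.Surjective (asMap (F := F)) := fun hs =>
  zero_ne_one (α := F) (Finite.injective_iff_surjective.2 hs (by simp [asMap, CharTwo.add_self_eq_zero]))

theorem exists_nonAS [Finite F] : ∃ c : F, ∀ g, g + g * g ≠ c := by
  have h := asMap_not_surjective (F := F)
  simp only [Function.Surjective, not_forall, not_exists] at h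
  exact h

theorem as_cases [Finite F] {c : F} (hc : ∀ g, g + g * g ≠ c) (a : F) :
    (∃ g, a + (g + g * g) = 0) ∨ ∃ g, a + (g + g * g) = c := by
  by_contra hn
  rw [not_or] at hn
  push Not at hn
  obtain ⟨h0, hc'⟩ := hn
  have hcard := AddSubgroup.card_mul_index (asMap (F := F)).range
  have hker : Nat.card (asMap (F := F)).ker ≤ 2 := by
    have hsub : ((asMap (F := F)).ker : Set F) ⊆ {0, 1} := fun g hg => by
      have hg' : g * (1 + g) = 0 := by
        have : g + g * g = 0 := hg
        linear_combination this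
      rcases mul_eq_zero.1 hg' with h | h
      · exact Or.inl h
      · exact Or.inr (CharTwo.add_eq_zero.1 h).symm
    refine le_trans (Set.ncard_le_ncard hsub) ?_
    exact le_trans (Set.ncard_insert_le _ _) (by rw [Set.ncard_singleton])
  have hidx : (asMap (F := F)).range.index ≤ 2 := by
    have h1 := AddSubgroup.card_mul_index (asMap (F := F)).ker
    have h2 : (asMap (F := F)).ker.index = Nat.card (asMap (F := F)).range := AddSubgroup.index_ker _
    rw [h2] at h1
    have hpos : 0 < Nat.card (asMap (F := F)).range := Nat.card_pos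
    refine Nat.le_of_mul_le_mul_left ?_ hpos
    rw [hcard, ← h1, mul_comm]
    exact Nat.mul_le_mul_left _ hker
  let π : F → F ⧸ (asMap (F := F)).range := QuotientAddGroup.mk
  haveI : Fintype (F ⧸ (asMap (F := F)).range) := Fintype.ofFinite _
  have hne : ∀ u v : F, (∀ g, u + v ≠ g + g * g) → π u ≠ π v := fun u v huv he => by
    obtain ⟨g, hg⟩ := QuotientAddGroup.eq.1 he
    exact huv g (by rw [← CharTwo.neg_eq u]; exact hg.symm)
  have h3 : Function.Injective (fun i : Fin 3 => π (if i = 0 then 0 else if i = 1 then c else a)) := by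
    have e1 := hne 0 c fun g e => hc g (by rw [← e, zero_add])
    have e2 := hne 0 a fun g e => h0 g (by rw [← e, zero_add, CharTwo.add_self_eq_zero])
    have e3 := hne c a fun g e => hc' g (by
      rw [← e, add_comm c a, ← add_assoc, CharTwo.add_self_eq_zero, zero_add])
    intro i j hij
    fin_cases i <;> fin_cases j <;> simp_all
  have := Nat.card_le_card_of_injective _ h3
  rw [Nat.card_fin] at this
  change 3 ≤ (asMap (F := F)).range.index at this
  omega

end field

variable {F V : Type*} [Field F] [AddCommGroup V] [Module F V]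
  {B : V →ₗ[F] V →ₗ[F] F} {N S : Module.End F V} [CharP F 2] (h : UPair B N S) {c : F}

include h

/-- An isotropic vector in the second level gives a normal `W(2m+1)` of class `0`. -/
theorem ogen_of_isotropic {u v : V} {m : ℕ} (hu : (S ^ m) (N u) = 0) (hv : (S ^ m) (N v) = 0)
    (huv : psi B S u v m = 1) (hq : ∀ i, i + 1 = m → chi B N S u u i = 0) :
    ∃ x y, OGen B N S c m false x y := by
  refine ogen_of_top h (e := false) (y := v + chi B N S v v (m - 1) • (S ^ 0) u) (by simp) hu
    (h.capN_step _ hv hu) ?_ (fun i hi => by simpa using hq i hi) fun i hi => ?_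
  · rw [h.psi_step_right, h.psi_self, mul_zero, add_zero, huv]
  · obtain rfl : i = m - 1 := by omega
    rw [h.chi_self_step, show m - 1 + 0 + 1 = m by omega, show m - 1 + 2 * 0 = m - 1 by omega,
      h.psi_comm u v, huv, hq _ hi]
    simp [CharTwo.add_self_eq_zero]

/-- A vector with non-zero top pairing gives a normal `V(2m)`. -/
theorem vgen_of_vec [Finite F] (hc : ∀ g : F, g + g * g ≠ c) {x : V} {m : ℕ} (hm : 1 ≤ m)
    (hx : (S ^ m) x = 0) (h1 : chi B N S x x (m - 1) ≠ 0) : ∃ e z, VGen B N S c m e z := by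
  obtain ⟨γ, hγ⟩ := exists_sqrt (chi B N S x x (m - 1))⁻¹
  set z := γ • x with hz
  have hzc : (S ^ m) z = 0 := by rw [hz, map_smul, hx, smul_zero]
  have hz1 : chi B N S z z (m - 1) = 1 := by
    have : chi B N S z z (m - 1) = γ * γ * chi B N S x x (m - 1) := by simp [hz, chi, mul_assoc]
    rw [this, hγ, inv_mul_cancel₀ h1]
  rcases Nat.lt_or_ge m 2 with hm2 | hm2
  · exact ⟨false, vgen_of_levels h hm hzc (by simp) hz1 (by omega)⟩
  have step : ∀ g : F, (S ^ m) (z + g • (S ^ 0) (N z)) = 0 ∧
      chi B N S (z + g • (S ^ 0) (N z)) (z + g • (S ^ 0) (N z)) (m - 1) = 1 ∧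
      chi B N S (z + g • (S ^ 0) (N z)) (z + g • (S ^ 0) (N z)) (m - 2) =
        chi B N S z z (m - 2) + (g + g * g) := fun g => by
    refine ⟨h.cap_step _ hzc (h.cap_N hzc), ?_, ?_⟩
    · rw [h.chi_self_stepN, h.chi_eq_zero (h.cap_N hzc) (show m ≤ m - 1 + 0 + 1 by omega), hz1]
      ring
    · rw [h.chi_self_stepN, show m - 2 + 0 + 1 = m - 1 by omega, hz1]
      ring
  rcases as_cases hc (chi B N S z z (m - 2)) with ⟨g, hg⟩ | ⟨g, hg⟩
  · obtain ⟨a, b, d⟩ := step g
    exact ⟨false, vgen_of_levels h hm a (by simp) b fun _ => by rw [d, hg]; simp⟩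
  · obtain ⟨a, b, d⟩ := step g
    exact ⟨true, vgen_of_levels h hm a (fun _ => hm2) b fun _ => by rw [d, hg]; simp⟩

/-- An odd top pair gives a normal `W(2m+1)`. -/
theorem ogen_of_pair [Finite F] (hc : ∀ g : F, g + g * g ≠ c) {x y : V} {m : ℕ}
    (hx : (S ^ m) (N x) = 0) (hy : (S ^ m) (N y) = 0) (hxy : psi B S x y m ≠ 0) :
    ∃ e a b, OGen B N S c m e a b := by
  wlog hone : psi B S x y m = 1 generalizing y
  · refine this (y := (psi B S x y m)⁻¹ • y) (by rw [map_smul, map_smul, hy, smul_zero]) ?_ ?_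
    · simp only [psi, map_smul, smul_eq_mul] at hxy ⊢
      rw [inv_mul_cancel₀ hxy]; exact one_ne_zero
    · simp only [psi, map_smul, smul_eq_mul] at hxy ⊢
      rw [inv_mul_cancel₀ hxy]
  by_cases hq : chi B N S x x (m - 1) = 0
  · obtain ⟨a, b, hab⟩ := ogen_of_isotropic h (c := c) hx hy hone fun i hi => by
      rw [show i = m - 1 by omega]; exact hq
    exact ⟨false, a, b, hab⟩
  rcases Nat.eq_zero_or_pos m with rfl | hm
  · exact absurd (h.chi_eq_zero hx (Nat.zero_le _)) hq
  obtain ⟨γ, hγ⟩ := exists_sqrt (chi B N S x x (m - 1))⁻¹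
  have hγ0 : γ ≠ 0 := fun h0 => inv_ne_zero hq (by rw [← hγ, h0, mul_zero])
  set x1 := γ • x with hx1
  set y1 := γ⁻¹ • y with hy1
  have cx : (S ^ m) (N x1) = 0 := by rw [hx1, map_smul, map_smul, hx, smul_zero]
  have cy : (S ^ m) (N y1) = 0 := by rw [hy1, map_smul, map_smul, hy, smul_zero]
  have h1 : chi B N S x1 x1 (m - 1) = 1 := by
    have : chi B N S x1 x1 (m - 1) = γ * γ * chi B N S x x (m - 1) := by simp [hx1, chi, mul_assoc]
    rw [this, hγ, inv_mul_cancel₀ hq]
  have hp : psi B S x1 y1 m = 1 := by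
    have : psi B S x1 y1 m = γ⁻¹ * γ * psi B S x y m := by simp [hx1, hy1, psi]; ring
    rw [this, inv_mul_cancel₀ hγ0, hone, one_mul]
  have step : ∀ g : F, (S ^ m) (N (y1 + g • (S ^ 0) x1)) = 0 ∧
      psi B S x1 (y1 + g • (S ^ 0) x1) m = 1 ∧
      chi B N S (y1 + g • (S ^ 0) x1) (y1 + g • (S ^ 0) x1) (m - 1) =
        chi B N S y1 y1 (m - 1) + (g + g * g) := fun g => by
    refine ⟨h.capN_step _ cy cx, ?_, ?_⟩
    · rw [h.psi_step_right, h.psi_self, mul_zero, add_zero, hp]
    · rw [h.chi_self_step, show m - 1 + 0 + 1 = m by omega, show m - 1 + 2 * 0 = m - 1 by omega,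
        h.psi_comm x1 y1, hp, h1]
      ring
  rcases as_cases hc (chi B N S y1 y1 (m - 1)) with ⟨g, hg⟩ | ⟨g, hg⟩
  · obtain ⟨a, b, d⟩ := step g
    obtain ⟨p, q, hpq⟩ := ogen_of_isotropic h (c := c) a cx (by rw [h.psi_comm, b]) fun i hi => by
      rw [show i = m - 1 by omega, d, hg]
    exact ⟨false, p, q, hpq⟩
  · obtain ⟨a, b, d⟩ := step g
    obtain ⟨p, q, hpq⟩ := ogen_of_top h (e := true) (c := c) (fun _ => hm) cx a b
      (fun i hi => by rw [show i = m - 1 by omega, h1]; simp)
      (fun i hi => by rw [show i = m - 1 by omega, d, hg]; simp)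
    exact ⟨true, p, q, hpq⟩

/-- Three orthogonal `V(2m)` contain a `W(2m)`. -/
theorem move_three {x y z : V} {m : ℕ} {e₁ e₂ e₃ : Bool} (hx : VGen B N S c m e₁ x)
    (hy : VGen B N S c m e₂ y) (hz : VGen B N S c m e₃ z) (oxy : ∀ i, psi B S x y i = 0)
    (oyz : ∀ i, psi B S y z i = 0) (cxy : ∀ i, chi B N S x y i = 0) (cxz : ∀ i, chi B N S x z i = 0)
    (cyz : ∀ i, chi B N S y z i = 0) : ∃ a b, EGen B N S m a b := by
  have hm := hx.pos
  have top : ∀ {w : V} {e : Bool}, VGen B N S c m e w → chi B N S w w (m - 1) = 1 := fun hw => by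
    rw [hw.phi, if_pos (by omega)]
  refine egen_of_top h hm (x := x + y) (y := y + z) (by rw [map_add, hx.cap, hy.cap, add_zero])
    (by rw [map_add, hy.cap, hz.cap, add_zero]) ?_ ?_ ?_
  · rw [h.chi_add_self, top hx, top hy, oxy, add_zero, CharTwo.add_self_eq_zero]
  · rw [h.chi_add_self, top hy, top hz, oyz, add_zero, CharTwo.add_self_eq_zero]
  · have : chi B N S (x + y) (y + z) (m - 1) = chi B N S x y (m - 1) + chi B N S x z (m - 1) +
        (chi B N S y y (m - 1) + chi B N S y z (m - 1)) := by simp [chi]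
    rw [this, cxy, cxz, cyz, top hy]
    simp

/-- Two orthogonal `W(2m+1)` of class `1` contain one of class `0`. -/
theorem move_pair {x y x' y' : V} {m : ℕ} (hxy : OGen B N S c m true x y)
    (hxy' : OGen B N S c m true x' y') (oxx : ∀ i, psi B S x x' i = 0)
    (oyx : ∀ i, psi B S y x' i = 0) : ∃ a b, OGen B N S c m false a b := by
  refine ogen_of_isotropic h (u := x + x') (v := y) (by rw [map_add, map_add, hxy.capx, hxy'.capx, add_zero])
    hxy.capy ?_ fun i hi => ?_
  · have : psi B S (x + x') y m = psi B S x y m + psi B S x' y m := by simp [psi]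
    rw [this, hxy.psixy, if_pos rfl, h.psi_comm y x', oyx, add_zero]
  · rw [h.chi_add_self, hxy.phix, hxy'.phix, if_pos ⟨hi, rfl⟩, oxx, add_zero,
      CharTwo.add_self_eq_zero]

/-- A `W(2m+1)` of class `1` and a `V(2m)` contain a `W(2m+1)` of class `0`. -/
theorem move_below {x y z : V} {m : ℕ} {e : Bool} (hxy : OGen B N S c m true x y)
    (hz : VGen B N S c m e z) (oxz : ∀ i, psi B S x z i = 0) (oyz : ∀ i, psi B S y z i = 0) :
    ∃ a b, OGen B N S c m false a b := by
  refine ogen_of_isotropic h (u := x + z) (v := y)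
    (by rw [map_add, map_add, hxy.capx, h.cap_N hz.cap, add_zero]) hxy.capy ?_ fun i hi => ?_
  · have : psi B S (x + z) y m = psi B S x y m + psi B S z y m := by simp [psi]
    rw [this, hxy.psixy, if_pos rfl, h.psi_comm y z, oyz, add_zero]
  · rw [h.chi_add_self, hxy.phix, hz.phi, if_pos ⟨hi, rfl⟩, if_pos hi, oxz, add_zero,
      CharTwo.add_self_eq_zero]

/-- A `W(2m+1)` of class `1` and a `V(2m+2)` contain a `W(2m+1)` of class `0`. -/
theorem move_above {x y z : V} {m : ℕ} {e : Bool} (hxy : OGen B N S c m true x y)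
    (hz : VGen B N S c (m + 1) e z) (cxz : ∀ i, chi B N S x z i = 0)
    (cyz : ∀ i, chi B N S y z i = 0) : ∃ a b, OGen B N S c m false a b := by
  refine ogen_of_isotropic h (u := x + N z) (v := y) ?_ hxy.capy ?_ fun i hi => ?_
  · rw [map_add, map_add, hxy.capx, h.sq, map_add, ← Module.End.mul_apply, ← pow_succ, hz.cap,
      ← Module.End.mul_apply, ← pow_succ, h.cap_N hz.cap]
    simp
  · have : psi B S (x + N z) y m = psi B S x y m + psi B S (N z) y m := by simp [psi]
    rw [this, hxy.psixy, if_pos rfl, h.psi_N_left, cyz, add_zero]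
  · rw [h.chi_add_self, h.chi_N_left, h.psi_N_right, h.psi_N_right, hxy.phix, hz.phi, cxz,
      if_pos ⟨hi, rfl⟩, if_pos (by omega), add_zero, CharTwo.add_self_eq_zero]

/-- A `V(2m)` of class `1` and a `V(2m-2)` contain a `V(2m)` of class `0`. -/
theorem move_next [Finite F] {x y : V} {m : ℕ} {e : Bool} (hx : VGen B N S c (m + 2) true x)
    (hy : VGen B N S c (m + 1) e y) (oxy : ∀ i, psi B S x y i = 0) :
    ∃ z, VGen B N S c (m + 2) false z := by
  obtain ⟨γ, hγ⟩ := exists_sqrt c
  have hy' : (S ^ (m + 2)) y = 0 := h.pow_eq_zero_of_le hy.cap (by omega)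
  refine vgen_of_levels h (by omega) (x := x + γ • (S ^ 0) y) (h.cap_step _ hx.cap hy') (by simp) ?_
    fun _ => ?_
  · rw [h.chi_self_step, hx.phi, oxy, hy.phi, if_pos (by omega), if_neg (by omega),
      if_neg (by omega)]
    ring
  · rw [h.chi_self_step, hx.phi, oxy, hy.phi, if_neg (by omega), if_pos ⟨by omega, rfl⟩,
      if_pos (by omega), hγ]
    simp [CharTwo.add_self_eq_zero]

/-- Two orthogonal `V(2m)` of class `1` contain one of class `0`. -/
theorem move_same [Finite F] {x y : V} {m : ℕ} (hx : VGen B N S c m true x)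
    (hy : VGen B N S c m true y) (cxy : ∀ i, chi B N S x y i = 0) :
    ∃ z, VGen B N S c m false z := by
  obtain ⟨γ, hγ⟩ := exists_sqrt c
  have hm := hx.flag rfl
  refine vgen_of_levels h hx.pos (x := x + γ • (S ^ 0) (N y))
    (h.cap_step _ hx.cap (h.cap_N hy.cap)) (by simp) ?_ fun _ => ?_
  · rw [h.chi_self_stepN, hx.phi, cxy, h.chi_eq_zero (h.cap_N hy.cap) (show m ≤ m - 1 + 2 * 0 + 1 by omega),
      if_pos (by omega)]
    ring
  · rw [h.chi_self_stepN, hx.phi, cxy, hy.phi, if_neg (by omega), if_pos ⟨by omega, rfl⟩,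
      if_pos (by omega), hγ]
    simp [CharTwo.add_self_eq_zero]

end CfsgLib.SpEven
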