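import Cfsg.Agent.Lib.SpEven.Exists

/-!
A decomposition of least weight has normal type.
-/

set_option autoImplicit false
set_option linter.unusedSectionVars false

namespace CfsgLib.SpEven

open CfsgLib.LinFix CfsgLib.SpClassNum

/-- The normal types. -/
structure Normal (l : Multiset Tag) : Prop where
  valid : ∀ t ∈ l, t.Valid
  cnt : ∀ m, l.count (.v m false) + l.count (.v m true) ≤ 2
  same : ∀ m, l.count (.v m true) ≤ 1
  pair : ∀ k, l.count (.w k true) ≤ 1
  below : ∀ m e, .w (2 * m + 1) true ∈ l → .v m e ∉ l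
  above : ∀ m e, .w (2 * m + 1) true ∈ l → .v (m + 1) e ∉ l
  next : ∀ m e, .v (m + 2) true ∈ l → .v (m + 1) e ∉ l

/-- The weight of a type. -/
def w₁ : Tag → ℕ
  | .v _ _ => 1
  | .w _ _ => 0

/-- The weight of a type. -/
def w₂ : Tag → ℕ
  | .w _ true => 1
  | _ => 0

/-- The weight of a type. -/
def w₃ : Tag → ℕ
  | .v m true => 3 ^ m
  | _ => 0

/-- The weight of a list of types. -/
def weight (l : Multiset Tag) : ℕ ×ₗ (ℕ ×ₗ ℕ) :=
  toLex ((l.map w₁).sum, toLex ((l.map w₂).sum, (l.map w₃).sum))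

theorem weight_lt_iff (a b : Multiset Tag) : weight a < weight b ↔
    (a.map w₁).sum < (b.map w₁).sum ∨ (a.map w₁).sum = (b.map w₁).sum ∧
      ((a.map w₂).sum < (b.map w₂).sum ∨ (a.map w₂).sum = (b.map w₂).sum ∧
        (a.map w₃).sum < (b.map w₃).sum) := by
  simp only [weight, Prod.Lex.toLex_lt_toLex]

theorem sizes_eq_zero {l : Multiset Tag} (hl : sizes l = 0) : l = 0 := by
  induction l using Multiset.induction with
  | empty => rfl
  | cons t l _ =>
    have := congrArg Multiset.card hl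
    rw [sizes_cons, Multiset.card_add, Tag.sizes, Multiset.card_replicate] at this
    cases t <;> simp [Tag.rk] at this

theorem sizes_eq_single {l : Multiset Tag} {m : ℕ} (hl : sizes l = {2 * m}) :
    (∃ e, l = {Tag.v m e}) := by
  rcases eq_or_ne l 0 with rfl | hne
  · exact absurd hl.symm (Multiset.singleton_ne_zero _)
  obtain ⟨t, ht⟩ := Multiset.exists_mem_of_ne_zero hne
  obtain ⟨l', rfl⟩ := Multiset.exists_cons_of_mem ht
  rw [sizes_cons] at hl
  have hcard := congrArg Multiset.card hl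
  rw [Multiset.card_add, Tag.sizes, Multiset.card_replicate, Multiset.card_singleton] at hcard
  cases t with
  | w k e => simp [Tag.rk] at hcard; omega
  | v m' e =>
    obtain rfl := sizes_eq_zero (Multiset.card_eq_zero.1 (show (sizes l').card = 0 by
      simp only [Tag.rk] at hcard; omega))
    simp only [sizes_zero, add_zero, Tag.sizes, Tag.rk, Tag.ex, Multiset.replicate_one,
      Multiset.singleton_inj] at hl
    exact ⟨e, by rw [show m' = m by omega]; rfl⟩

theorem sizes_eq_pair {l : Multiset Tag} {m : ℕ} (hl : sizes l = {2 * m + 1, 2 * m + 1}) :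
    (∃ e, l = {Tag.w (2 * m + 1) e}) := by
  rcases eq_or_ne l 0 with rfl | hne
  · exact absurd hl.symm (by simp)
  obtain ⟨t, ht⟩ := Multiset.exists_mem_of_ne_zero hne
  obtain ⟨l', rfl⟩ := Multiset.exists_cons_of_mem ht
  rw [sizes_cons] at hl
  have hcard := congrArg Multiset.card hl
  have hmem : t.ex ∈ ({2 * m + 1, 2 * m + 1} : Multiset ℕ) := hl ▸ Multiset.mem_add.2
    (Or.inl (Multiset.mem_replicate.2 ⟨by cases t <;> simp [Tag.rk], rfl⟩))
  simp only [Multiset.insert_eq_cons, Multiset.mem_cons, Multiset.mem_singleton, or_self] at hmem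
  cases t with
  | v m' e => simp only [Tag.ex] at hmem; omega
  | w k e =>
    simp only [Tag.ex] at hmem
    subst hmem
    obtain rfl := sizes_eq_zero (show sizes l' = 0 by simpa [Tag.sizes, Tag.rk] using hcard)
    exact ⟨e, rfl⟩

variable {F V : Type*} [Field F] [CharP F 2] [AddCommGroup V] [Module F V]
  {B : V →ₗ[F] V →ₗ[F] F} {N S : Module.End F V} {c : F}

theorem cross_zero (h : UPair B N S) {X Y : Submodule F V} (hY : Inv N Y)
    (ho : ∀ x ∈ X, ∀ y ∈ Y, B x y = 0) {x y : V} (hx : x ∈ X) (hy : y ∈ Y) (i : ℕ) :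
    psi B S x y i = 0 ∧ chi B N S x y i = 0 :=
  ⟨ho x hx _ ((h.inv_S hY).pow i y hy), ho x hx _ ((h.inv_S hY).pow i _ (hY y hy))⟩

theorem two_gens (h : UPair B N S) {U : Submodule F V} {a b : Tag} {l : Multiset Tag}
    (hd : Dec B N S c U (a ::ₘ b ::ₘ l)) :
    ∃ ga gb, Gen B N S c a ga ∧ Gen B N S c b gb ∧ (∀ i, ga i ∈ U) ∧ (∀ i, gb i ∈ U) ∧
      ∀ i j n, psi B S (ga i) (gb j) n = 0 ∧ chi B N S (ga i) (gb j) n = 0 := by
  obtain ⟨X, X', hX, hX', hsup, ho⟩ := hd.split h {a} (b ::ₘ l) (Multiset.singleton_add a _).symm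
  obtain ⟨ga, hga, rfl⟩ := hX.single
  obtain ⟨Y, Y', hY, hY', hsup', -⟩ := hX'.split h {b} l (Multiset.singleton_add b _).symm
  obtain ⟨gb, hgb, rfl⟩ := hY.single
  have hle : blk N b gb ≤ X' := hsup' ▸ le_sup_left
  exact ⟨ga, gb, hga, hgb, fun i => hsup ▸ Submodule.mem_sup_left (hga.mem_blk i),
    fun i => hsup ▸ Submodule.mem_sup_right (hle (hgb.mem_blk i)),
    fun i j n => cross_zero h (hgb.inv h) (fun x hx y hy => ho x hx y (hle hy)) (hga.mem_blk i)
      (hgb.mem_blk j) n⟩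

theorem three_gens (h : UPair B N S) {U : Submodule F V} {a b d : Tag}
    (hd : Dec B N S c U (a ::ₘ b ::ₘ {d})) :
    ∃ ga gb gd, Gen B N S c a ga ∧ Gen B N S c b gb ∧ Gen B N S c d gd ∧
      (∀ i, ga i ∈ U) ∧ (∀ i, gb i ∈ U) ∧ (∀ i, gd i ∈ U) ∧
      (∀ i j n, psi B S (ga i) (gb j) n = 0 ∧ chi B N S (ga i) (gb j) n = 0) ∧
      (∀ i j n, psi B S (ga i) (gd j) n = 0 ∧ chi B N S (ga i) (gd j) n = 0) ∧
      ∀ i j n, psi B S (gb i) (gd j) n = 0 ∧ chi B N S (gb i) (gd j) n = 0 := by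
  obtain ⟨X, X', hX, hX', hsup, ho⟩ := hd.split h {a} (b ::ₘ {d}) (Multiset.singleton_add a _).symm
  obtain ⟨ga, hga, rfl⟩ := hX.single
  obtain ⟨gb, gd, hgb, hgd, mb, md, hbd⟩ := two_gens h (l := 0) (by
    rw [show b ::ₘ d ::ₘ 0 = b ::ₘ {d} from rfl]; exact hX')
  have hX'i := (hX'.inv_nondeg h).1
  exact ⟨ga, gb, gd, hga, hgb, hgd, fun i => hsup ▸ Submodule.mem_sup_left (hga.mem_blk i),
    fun i => hsup ▸ Submodule.mem_sup_right (mb i), fun i => hsup ▸ Submodule.mem_sup_right (md i),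
    fun i j n => cross_zero h hX'i ho (hga.mem_blk i) (mb j) n,
    fun i j n => cross_zero h hX'i ho (hga.mem_blk i) (md j) n, hbd⟩

variable [Finite F] [FiniteDimensional F V] (h : UPair B N S) (hc : ∀ g : F, g + g * g ≠ c)
  {W : Submodule F V} {l : Multiset Tag} (hd : Dec B N S c W l)
  (hmin : ∀ l', Dec B N S c W l' → ¬ weight l' < weight l)

include h hc hd hmin

theorem no_sub (l₀ : Multiset Tag) (hle : l₀ ≤ l) (t : Tag)
    (hfind : ∀ U : Submodule F V, Inv N U → (∀ v ∈ U, (∀ w ∈ U, B v w = 0) → v = 0) →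
      Dec B N S c U l₀ → ∃ g, Gen B N S c t g ∧ ∀ a, g a ∈ U)
    (hlt : ∀ l', sizes (t ::ₘ l') = sizes l₀ → weight (t ::ₘ l') < weight l₀) : False := by
  obtain ⟨rest, rfl⟩ := Multiset.le_iff_exists_add.1 hle
  obtain ⟨l', hs, hd'⟩ := hd.replace h hc (l₀ := l₀) (rest := rest) (t := t) hfind
  refine hmin _ hd' ?_
  have := (weight_lt_iff _ _).1 (hlt l' hs)
  rw [weight_lt_iff]
  simp only [Multiset.map_add, Multiset.sum_add] at this ⊢
  omega

theorem no_three {m : ℕ} (e₁ e₂ e₃ : Bool) :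
    ¬ (Tag.v m e₁ ::ₘ Tag.v m e₂ ::ₘ {Tag.v m e₃}) ≤ l := fun hle => by
  refine no_sub h hc hd hmin _ hle (.w (2 * m) false) (fun U hU hUn hdU => ?_) fun l' hl' => ?_
  · obtain ⟨ga, gb, gd, hga, hgb, hgd, ma, mb, md, hab, had, hbd⟩ := three_gens h hdU
    let i₀ : Fin 1 := ⟨0, Nat.one_pos⟩
    obtain ⟨a, b, hab'⟩ := move_three (h.restrict hU hUn) (c := c)
      (x := ⟨ga i₀, ma _⟩) (y := ⟨gb i₀, mb _⟩) (z := ⟨gd i₀, md _⟩)
      ((vgen_res_iff h hU m e₁ _).2 hga) ((vgen_res_iff h hU m e₂ _).2 hgb)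
      ((vgen_res_iff h hU m e₃ _).2 hgd)
      (fun n => (psi_res h hU _ _ n).trans (hab i₀ i₀ n).1)
      (fun n => (psi_res h hU _ _ n).trans (hbd i₀ i₀ n).1)
      (fun n => (chi_res h hU _ _ n).trans (hab i₀ i₀ n).2)
      (fun n => (chi_res h hU _ _ n).trans (had i₀ i₀ n).2)
      (fun n => (chi_res h hU _ _ n).trans (hbd i₀ i₀ n).2)
    exact ⟨_, (gen_res_iff h hU _ _).1 (gen_w_even hab'), fun i => Subtype.property _⟩
  · obtain ⟨e, rfl⟩ := sizes_eq_single (m := m) (l := l') (by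
      simp only [sizes_cons, Tag.sizes, Tag.rk, Tag.ex] at hl'
      refine add_left_cancel (hl'.trans ?_)
      simp [sizes, Tag.sizes, Tag.rk, Tag.ex, Multiset.replicate_succ])
    rw [weight_lt_iff]
    simp [w₁]

theorem no_pair {m : ℕ} : ¬ (Tag.w (2 * m + 1) true ::ₘ {Tag.w (2 * m + 1) true}) ≤ l := fun hle => by
  refine no_sub h hc hd hmin _ hle (.w (2 * m + 1) false) (fun U hU hUn hdU => ?_) fun l' hl' => ?_
  · obtain ⟨ga, gb, hga, hgb, ma, mb, hab⟩ := two_gens h (l := 0) hdU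
    let i₀ : Fin 2 := ⟨0, Nat.two_pos⟩
    let i₁ : Fin 2 := ⟨1, Nat.one_lt_two⟩
    obtain ⟨a, b, hab'⟩ := move_pair (h.restrict hU hUn) (c := c) (x := ⟨ga i₀, ma _⟩)
      (y := ⟨ga i₁, ma _⟩) (x' := ⟨gb i₀, mb _⟩) (y' := ⟨gb i₁, mb _⟩)
      ((ogen_res_iff h hU m true _ _).2 hga.to_ogen) ((ogen_res_iff h hU m true _ _).2 hgb.to_ogen)
      (fun n => (psi_res h hU _ _ n).trans (hab i₀ i₀ n).1)
      (fun n => (psi_res h hU _ _ n).trans (hab i₁ i₀ n).1)
    exact ⟨_, (gen_res_iff h hU _ _).1 (gen_w_odd hab'), fun i => Subtype.property _⟩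
  · obtain ⟨e, rfl⟩ := sizes_eq_pair (m := m) (l := l') (by
      simp only [sizes_cons, Tag.sizes, Tag.rk, Tag.ex] at hl'
      refine add_left_cancel (hl'.trans ?_)
      simp [sizes, Tag.sizes, Tag.rk, Tag.ex, Multiset.replicate_succ])
    rw [weight_lt_iff]
    cases e <;> simp [w₁, w₂]

theorem no_adj {m : ℕ} (j : ℕ) (hj : j = m ∨ j = m + 1) (e : Bool) :
    ¬ (Tag.w (2 * m + 1) true ::ₘ {Tag.v j e}) ≤ l := fun hle => by
  refine no_sub h hc hd hmin _ hle (.w (2 * m + 1) false) (fun U hU hUn hdU => ?_) fun l' hl' => ?_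
  · obtain ⟨ga, gb, hga, hgb, ma, mb, hab⟩ := two_gens h (l := 0) hdU
    let i₀ : Fin 2 := ⟨0, Nat.two_pos⟩
    let i₁ : Fin 2 := ⟨1, Nat.one_lt_two⟩
    let j₀ : Fin 1 := ⟨0, Nat.one_pos⟩
    have hx := (ogen_res_iff h hU m true ⟨ga i₀, ma _⟩ ⟨ga i₁, ma _⟩).2 hga.to_ogen
    have hz := (vgen_res_iff h hU j e ⟨gb j₀, mb _⟩).2 hgb
    rcases hj with rfl | rfl
    · obtain ⟨a, b, hab'⟩ := move_below (h.restrict hU hUn) hx hz
        (fun n => (psi_res h hU _ _ n).trans (hab i₀ j₀ n).1)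
        (fun n => (psi_res h hU _ _ n).trans (hab i₁ j₀ n).1)
      exact ⟨_, (gen_res_iff h hU _ _).1 (gen_w_odd hab'), fun i => Subtype.property _⟩
    · obtain ⟨a, b, hab'⟩ := move_above (h.restrict hU hUn) hx hz
        (fun n => (chi_res h hU _ _ n).trans (hab i₀ j₀ n).2)
        (fun n => (chi_res h hU _ _ n).trans (hab i₁ j₀ n).2)
      exact ⟨_, (gen_res_iff h hU _ _).1 (gen_w_odd hab'), fun i => Subtype.property _⟩
  · obtain ⟨e', rfl⟩ := sizes_eq_single (m := j) (l := l') (by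
      simp only [sizes_cons, Tag.sizes, Tag.rk, Tag.ex] at hl'
      refine add_left_cancel (hl'.trans ?_)
      simp [sizes, Tag.sizes, Tag.rk, Tag.ex])
    rw [weight_lt_iff]
    simp [w₁, w₂]

theorem no_next {m : ℕ} (e : Bool) : ¬ (Tag.v (m + 2) true ::ₘ {Tag.v (m + 1) e}) ≤ l := fun hle => by
  refine no_sub h hc hd hmin _ hle (.v (m + 2) false) (fun U hU hUn hdU => ?_) fun l' hl' => ?_
  · obtain ⟨ga, gb, hga, hgb, ma, mb, hab⟩ := two_gens h (l := 0) hdU
    let j₀ : Fin 1 := ⟨0, Nat.one_pos⟩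
    obtain ⟨z, hz⟩ := move_next (h.restrict hU hUn) ((vgen_res_iff h hU (m + 2) true ⟨ga j₀, ma _⟩).2 hga)
      ((vgen_res_iff h hU (m + 1) e ⟨gb j₀, mb _⟩).2 hgb)
      (fun n => (psi_res h hU _ _ n).trans (hab j₀ j₀ n).1)
    exact ⟨_, (gen_res_iff h hU _ _).1 (gen_v hz), fun i => Subtype.property _⟩
  · obtain ⟨e', rfl⟩ := sizes_eq_single (m := m + 1) (l := l') (by
      simp only [sizes_cons, Tag.sizes, Tag.rk, Tag.ex] at hl'
      refine add_left_cancel (hl'.trans ?_)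
      simp [sizes, Tag.sizes, Tag.rk, Tag.ex])
    have h3 : 0 < 3 ^ (m + 1) := by positivity
    rw [weight_lt_iff]
    cases e <;> cases e' <;> simp [w₁, w₂, w₃, pow_succ] <;> omega

theorem no_same {m : ℕ} : ¬ (Tag.v m true ::ₘ {Tag.v m true}) ≤ l := fun hle => by
  refine no_sub h hc hd hmin _ hle (.v m false) (fun U hU hUn hdU => ?_) fun l' hl' => ?_
  · obtain ⟨ga, gb, hga, hgb, ma, mb, hab⟩ := two_gens h (l := 0) hdU
    let j₀ : Fin 1 := ⟨0, Nat.one_pos⟩
    obtain ⟨z, hz⟩ := move_same (h.restrict hU hUn) ((vgen_res_iff h hU m true ⟨ga j₀, ma _⟩).2 hga)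
      ((vgen_res_iff h hU m true ⟨gb j₀, mb _⟩).2 hgb)
      (fun n => (chi_res h hU _ _ n).trans (hab j₀ j₀ n).2)
    exact ⟨_, (gen_res_iff h hU _ _).1 (gen_v hz), fun i => Subtype.property _⟩
  · obtain ⟨e', rfl⟩ := sizes_eq_single (m := m) (l := l') (by
      simp only [sizes_cons, Tag.sizes, Tag.rk, Tag.ex] at hl'
      refine add_left_cancel (hl'.trans ?_)
      simp [sizes, Tag.sizes, Tag.rk, Tag.ex])
    have h3 : 0 < 3 ^ m := by positivity
    rw [weight_lt_iff]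
    cases e' <;> simp [w₁, w₂, w₃]

theorem normal_of_min : Normal l := by
  have hv := hd.valid
  have le_of : ∀ {a b : Tag}, a ∈ l → b ∈ l → a ≠ b → a ::ₘ {b} ≤ l := fun {a b} ha hb hne =>
    (Multiset.le_iff_subset (by simp [hne])).2 fun x hx => by
      simp only [Multiset.mem_cons, Multiset.mem_singleton] at hx
      rcases hx with rfl | rfl <;> assumption
  have twice : ∀ {a : Tag}, 2 ≤ l.count a → a ::ₘ {a} ≤ l := fun {a} ha =>
    Multiset.le_iff_count.2 fun x => by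
      by_cases hx : x = a
      · subst hx; simpa using ha
      · simp [hx]
  refine ⟨hv, fun m => ?_, fun m => ?_, fun k => ?_, fun m e h1 h2 => ?_, fun m e h1 h2 => ?_,
    fun m e h1 h2 => ?_⟩
  · by_contra hn
    have hs : l.count (.v m true) ≤ 1 := not_lt.1 fun hgt => no_same h hc hd hmin (twice hgt)
    rcases Nat.lt_or_ge (l.count (Tag.v m false)) 3 with hf | hf
    · refine no_three h hc hd hmin (m := m) false false true (Multiset.le_iff_count.2 fun x => ?_)
      rcases eq_or_ne x (.v m false) with rfl | hx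
      · simp; omega
      rcases eq_or_ne x (.v m true) with rfl | hx'
      · simp; omega
      simp [hx, hx']
    · refine no_three h hc hd hmin (m := m) false false false (Multiset.le_iff_count.2 fun x => ?_)
      rcases eq_or_ne x (.v m false) with rfl | hx
      · simp; omega
      simp [hx]
  · exact not_lt.1 fun hgt => no_same h hc hd hmin (twice hgt)
  · refine not_lt.1 fun hgt => ?_
    obtain ⟨-, hodd⟩ := hv _ (Multiset.count_pos.1 (show 0 < l.count (Tag.w k true) by omega))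
    obtain ⟨m, rfl⟩ : ∃ m, k = 2 * m + 1 := ⟨k / 2, by have := (hodd rfl).1; omega⟩
    exact no_pair h hc hd hmin (twice hgt)
  · exact no_adj h hc hd hmin m (Or.inl rfl) e (le_of h1 h2 (by simp))
  · exact no_adj h hc hd hmin (m + 1) (Or.inr rfl) e (le_of h1 h2 (by simp))
  · exact no_next h hc hd hmin e (le_of h1 h2 (by simp))

end CfsgLib.SpEven

namespace CfsgLib.SpEven

open CfsgLib.LinFix

variable {F V : Type*} [Field F] [CharP F 2] [Finite F] [AddCommGroup V] [Module F V]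
  [FiniteDimensional F V] {B : V →ₗ[F] V →ₗ[F] F} {N S : Module.End F V} {c : F}

/-- There is a decomposition of normal type. -/
theorem exists_normal_dec (h : UPair B N S) (hc : ∀ g : F, g + g * g ≠ c) :
    ∃ l, Normal l ∧ Dec B N S c ⊤ l ∧ (sizes l).sum = Module.finrank F V := by
  obtain ⟨l, hl⟩ := exists_dec h hc ⊤ (fun v _ => Submodule.mem_top)
    fun v _ hv => h.nondeg v fun w => hv w Submodule.mem_top
  obtain ⟨_, ⟨l', hl', rfl⟩, hmin⟩ := wellFounded_lt.has_min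
    (weight '' {l | Dec B N S c ⊤ l}) ⟨_, l, hl, rfl⟩
  refine ⟨l', normal_of_min h hc hl' fun m hm => hmin _ ⟨m, hm, rfl⟩, hl', ?_⟩
  have := Dec.finrank_map h hl' 0
  rw [pow_zero, Module.End.one_eq_id, Submodule.map_id, finrank_top, blockRank_zero] at this
  exact this.symm

end CfsgLib.SpEven
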