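import Mathlib

/-!
In characteristic two an isometry without fixed vectors determines its invariant alternating form
up to its centraliser.
-/

set_option autoImplicit false

namespace CfsgLib.SpEven

theorem exists_as_of_nilpotent {R : Type*} [CommRing R] [CharP R 2] {ρ : R} (hρ : IsNilpotent ρ) :
    ∃ w : R, w * w + w = ρ := by
  have key : ∀ K : ℕ, ∃ w : R, w * w + w = ρ + ρ ^ 2 ^ K := by
    intro K
    induction K with
    | zero => exact ⟨0, by simp [CharTwo.add_self_eq_zero]⟩
    | succ K ih =>
      obtain ⟨w, hw⟩ := ih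
      refine ⟨w + ρ ^ 2 ^ K, ?_⟩
      rw [pow_succ 2 K, pow_mul]
      linear_combination hw + CharTwo.two_eq_zero (R := R) * (w * ρ ^ 2 ^ K + ρ ^ 2 ^ K)
  obtain ⟨K, hK⟩ := hρ
  obtain ⟨w, hw⟩ := key K
  exact ⟨w, by rw [hw, pow_eq_zero_of_le Nat.lt_two_pow_self.le hK, add_zero]⟩

/-- Every unit of a finite commutative ring of characteristic two is a value of a binary form. -/
theorem exists_form_value {R : Type*} [CommRing R] [Finite R] [CharP R 2] {s c : R} (hs : IsUnit s)
    (hc : IsUnit c) : ∃ a v : R, a * a + s * (a * v) + v * v = c := by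
  obtain ⟨e, f, hne, hef⟩ := Finite.exists_ne_map_eq_of_infinite fun i : ℕ => c ^ 2 ^ i
  wlog hlt : e < f generalizing e f
  · exact this f e hne.symm hef.symm (by omega)
  obtain ⟨d, rfl⟩ : ∃ d, f = e + (d + 1) := ⟨f - e - 1, by omega⟩
  set a := c ^ 2 ^ d with ha
  have ha2 : a * a = c ^ 2 ^ (d + 1) := by rw [ha, ← pow_add, pow_succ, mul_two]
  have hnil : IsNilpotent (c + a * a) := by
    haveI : Fact (Nat.Prime 2) := ⟨Nat.prime_two⟩
    refine ⟨2 ^ e, ?_⟩
    rw [add_pow_char_pow, ha2, ← pow_mul, ← pow_add, add_comm (d + 1), ← hef]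
    exact CharTwo.add_self_eq_zero _
  obtain ⟨t, ht⟩ := hs.mul (ha ▸ hc.pow (2 ^ d) : IsUnit a)
  obtain ⟨w, hw⟩ := exists_as_of_nilpotent
    ((Commute.all (c + a * a) ((↑t⁻¹ : R) * ↑t⁻¹)).isNilpotent_mul_right hnil)
  refine ⟨a, ↑t * w, ?_⟩
  have h1 : (↑t : R) * ↑t⁻¹ = 1 := t.mul_inv
  linear_combination (↑t : R) * ↑t * hw + (c + a * a) * ((↑t : R) * ↑t⁻¹ + 1) * h1 -
    (↑t : R) * w * ht + CharTwo.two_eq_zero (R := R) * (a * a)

variable {F : Type*} [Field F] [Finite F] [CharP F 2] {V : Type*} [AddCommGroup V] [Module F V]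
  [FiniteDimensional F V]

/-- Two invariant alternating forms of an isometry without fixed vectors differ by an element of
the centraliser. -/
theorem exists_centraliser_congr (B B' : V →ₗ[F] V →ₗ[F] F)
    (hB : ∀ v, B v v = 0) (hBn : ∀ v, (∀ w, B v w = 0) → v = 0)
    (hB' : ∀ v, B' v v = 0) (hBn' : ∀ v, (∀ w, B' v w = 0) → v = 0)
    (g : V ≃ₗ[F] V) (hg : ∀ x y, B (g x) (g y) = B x y) (hg' : ∀ x y, B' (g x) (g y) = B' x y)
    (h1 : ∀ v, g v = v → v = 0) :
    ∃ T : V ≃ₗ[F] V, (∀ x, T (g x) = g (T x)) ∧ ∀ x y, B (T x) (T y) = B' x y := by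
  classical
  rcases subsingleton_or_nontrivial V with hV | hV
  · exact ⟨LinearEquiv.refl F V, fun x => rfl, fun x y => by
      rw [Subsingleton.elim x 0]; simp⟩
  haveI : Finite V := Module.finite_of_finite F
  have sym : ∀ {b : V →ₗ[F] V →ₗ[F] F}, (∀ v, b v v = 0) → ∀ x y, b x y = b y x := by
    intro b hb x y
    have := hb (x + y)
    simp only [map_add, LinearMap.add_apply, hb, zero_add, add_zero] at this
    exact (CharTwo.add_eq_zero.1 this).symm
  -- the ratio of the forms
  have hinj : Function.Injective B := fun x y h => sub_eq_zero.1 (hBn _ fun w => by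
    rw [map_sub, h, sub_self, LinearMap.zero_apply])
  let eB : V ≃ₗ[F] Module.Dual F V := LinearEquiv.ofBijective B
    ⟨hinj, (LinearMap.injective_iff_surjective_of_finrank_eq_finrank
      (Subspace.dual_finrank_eq).symm).1 hinj⟩
  let Cm : Module.End F V := eB.symm.toLinearMap ∘ₗ B'
  have hC : ∀ x y, B (Cm x) y = B' x y := fun x y =>
    congrArg (fun f : Module.Dual F V => f y) (eB.apply_symm_apply (B' x))
  have hCinj : Function.Injective Cm := fun x y h => sub_eq_zero.1 (hBn' _ fun w => by
    rw [← hC, map_sub, h, sub_self, map_zero, LinearMap.zero_apply])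
  have hCg : ∀ x, Cm (g x) = g (Cm x) := fun x => hinj (LinearMap.ext fun y => by
    obtain ⟨y, rfl⟩ := g.surjective y
    rw [hC, hg', hg, hC])
  have hgs : ∀ x, Cm (g.symm x) = g.symm (Cm x) := fun x => g.injective (by
    rw [← hCg, g.apply_symm_apply, g.apply_symm_apply])
  have hgB : ∀ x y, B (g x) y = B x (g.symm y) := fun x y => by
    conv_lhs => rw [← g.apply_symm_apply y, hg]
  have hgB' : ∀ x y, B (g.symm x) y = B x (g y) := fun x y => by
    conv_rhs => rw [← g.apply_symm_apply x, hg]
  let G : Module.End F V := g.toLinearMap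
  let G' : Module.End F V := g.symm.toLinearMap
  let P : Set (Module.End F V) := {Cm, G + G'}
  have hcomm : ∀ a ∈ P, ∀ b ∈ P, a * b = b * a := by
    have key : Cm * (G + G') = (G + G') * Cm := LinearMap.ext fun x => by
      simp [G, G', hCg, hgs]
    rintro a (rfl | rfl) b (rfl | rfl) <;> first | rfl | exact key | exact key.symm
  haveI hMC := Algebra.isMulCommutative_adjoin F hcomm
  let R := Algebra.adjoin F P
  letI : CommRing R := { (inferInstance : Ring R) with mul_comm := mul_comm' }
  haveI : Finite (Module.End F V) := Finite.of_injective (fun f => (f : V → V)) DFunLike.coe_injective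
  haveI : Finite R := Subtype.finite
  haveI : Nontrivial R := ⟨⟨0, 1, fun h => zero_ne_one (α := Module.End F V) (congrArg Subtype.val h)⟩⟩
  haveI : CharP R 2 := charP_of_injective_algebraMap (algebraMap F R).injective 2
  have unit_of_inj : ∀ r : R, Function.Injective (r : Module.End F V) → IsUnit r := fun r hr => by
    have hi : Function.Injective (fun x : R => r * x) := fun x y h => Subtype.ext (LinearMap.ext fun w =>
      hr (LinearMap.congr_fun (congrArg Subtype.val h) w))
    obtain ⟨x, hx⟩ := Finite.injective_iff_surjective.1 hi 1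
    exact IsUnit.of_mul_eq_one x hx
  let c : R := ⟨Cm, Algebra.subset_adjoin (Set.mem_insert _ _)⟩
  let s : R := ⟨G + G', Algebra.subset_adjoin (Set.mem_insert_of_mem _ rfl)⟩
  have htwo : ∀ z : V, z + z = 0 := fun z => by
    rw [← two_smul F z, CharTwo.two_eq_zero, zero_smul]
  have hs : IsUnit s := unit_of_inj s (show Function.Injective ⇑(G + G') from
    (injective_iff_map_eq_zero _).2 fun z hz => by
      replace hz : g z + g.symm z = 0 := hz
      have h2 : g (g z) + z = 0 := by
        have := congrArg g hz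
        rwa [map_add, g.apply_symm_apply, map_zero] at this
      have hfix : g (g z + z) = g z + z := by
        rw [map_add, eq_neg_of_add_eq_zero_left h2, eq_neg_of_add_eq_zero_left (htwo z) |>.symm,
          add_comm]
      refine h1 z (sub_eq_zero.1 ?_)
      rw [sub_eq_add_neg, ← eq_neg_of_add_eq_zero_left (htwo z)]
      exact h1 _ hfix)
  obtain ⟨a, v, hab⟩ := exists_form_value hs (unit_of_inj c hCinj)
  -- self-adjointness
  have sa : ∀ r : R, ∀ x y, B ((r : Module.End F V) x) y = B x ((r : Module.End F V) y) := by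
    rintro ⟨r, hr⟩
    show ∀ x y, B (r x) y = B x (r y)
    refine (Algebra.adjoin_induction (p := fun q _ => (∀ x y, B (q x) y = B x (q y)) ∧
      ∀ x, q (g x) = g (q x)) ?_ ?_ ?_ ?_ hr).1
    · rintro q (rfl | rfl)
      · exact ⟨fun x y => by rw [hC, sym hB' x y, ← hC, sym hB (Cm y) x], hCg⟩
      · exact ⟨fun x y => by simp [G, G', hgB, hgB', add_comm],
          fun x => by simp [G, G']⟩
    · intro t
      exact ⟨fun x y => by simp [Module.algebraMap_end_apply], fun x => by
        simp [Module.algebraMap_end_apply]⟩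
    · rintro q q' - - ⟨hq, hqg⟩ ⟨hq', hqg'⟩
      exact ⟨fun x y => by simp [hq, hq'], fun x => by simp [hqg, hqg']⟩
    · rintro q q' hqR hqR' ⟨hq, hqg⟩ ⟨hq', hqg'⟩
      refine ⟨fun x y => ?_, fun x => by rw [Module.End.mul_apply, Module.End.mul_apply, hqg', hqg]⟩
      rw [Module.End.mul_apply, hq, hq']
      congr 1
      exact (LinearMap.congr_fun (congrArg Subtype.val
        (mul_comm (⟨q, hqR⟩ : R) ⟨q', hqR'⟩)) y).symm
  have gcomm : ∀ r : R, ∀ x, (r : Module.End F V) (g x) = g ((r : Module.End F V) x) := by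
    rintro ⟨r, hr⟩
    refine Algebra.adjoin_induction (p := fun q _ => ∀ x, q (g x) = g (q x)) ?_ ?_ ?_ ?_ hr
    · rintro q (rfl | rfl)
      · exact hCg
      · exact fun x => by simp [G, G']
    · intro t x; simp [Module.algebraMap_end_apply]
    · intro q q' _ _ hq hq' x; simp [hq, hq']
    · intro q q' _ _ hq hq' x; simp [hq, hq']
  let A : Module.End F V := a
  let Bv : Module.End F V := v
  let T : Module.End F V := A + Bv * G
  have hTg : ∀ x, T (g x) = g (T x) := fun x => by
    simp [T, A, Bv, G, gcomm]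
  have hTB : ∀ x y, B (T x) (T y) = B' x y := by
    intro x y
    have hAB : ∀ z, A (Bv z) = Bv (A z) := fun z =>
      LinearMap.congr_fun (congrArg Subtype.val (mul_comm a v)) z
    have key : B' x y = B x ((A * A + (G + G') * (A * Bv) + Bv * Bv) y) := by
      rw [← hC]
      rw [show Cm = ((a * a + s * (a * v) + v * v : R) : Module.End F V) by rw [hab], sa]
      rfl
    rw [key]
    simp only [T, G, G', LinearMap.add_apply, Module.End.mul_apply, LinearEquiv.coe_coe, map_add,
      LinearMap.add_apply]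
    rw [show B (A x) (A y) = B x (A (A y)) from sa a x _,
      show B (A x) (Bv (g y)) = B x (g (A (Bv y))) by rw [sa a x, gcomm v, gcomm a],
      show B (Bv (g x)) (A y) = B x (g.symm (A (Bv y))) by rw [sa v, hgB, ← hAB],
      show B (Bv (g x)) (Bv (g y)) = B x (Bv (Bv y)) by
        rw [gcomm v, gcomm v, hg, sa v]]
    ring
  have hTinj : Function.Injective T := fun x y h => sub_eq_zero.1 (hBn' _ fun w => by
    rw [← hTB, map_sub, h, sub_self, map_zero, LinearMap.zero_apply])
  exact ⟨LinearEquiv.ofInjectiveEndo T hTinj, hTg, hTB⟩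

end CfsgLib.SpEven
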