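import Cfsg.Agent.Lib.SpEven.Ops

/-!
Normal generators of the indecomposable unipotent isometries in characteristic two: `V(2m)` with a
class in `F / ℘ F`, and `W(k)` with a class when `k` is odd.
-/

set_option autoImplicit false
set_option linter.unusedSectionVars false

namespace CfsgLib.SpEven

variable {F V : Type*} [Field F] [AddCommGroup V] [Module F V]

/-- `x` generates a normal `V(2m)`. -/
structure VGen (B : V →ₗ[F] V →ₗ[F] F) (N S : Module.End F V) (c : F) (m : ℕ) (e : Bool) (x : V) :
    Prop where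
  pos : 1 ≤ m
  cap : (S ^ m) x = 0
  flag : e = true → 2 ≤ m
  phi : ∀ i, chi B N S x x i = if i + 1 = m then 1 else if i + 2 = m ∧ e then c else 0

/-- `(x, y)` generates a normal `W(2m)`. -/
structure EGen (B : V →ₗ[F] V →ₗ[F] F) (N S : Module.End F V) (m : ℕ) (x y : V) : Prop where
  pos : 1 ≤ m
  capx : (S ^ m) x = 0
  capy : (S ^ m) y = 0
  phix : ∀ i, chi B N S x x i = 0
  phiy : ∀ i, chi B N S y y i = 0
  psixy : ∀ i, psi B S x y i = 0
  chixy : ∀ i, chi B N S x y i = if i + 1 = m then 1 else 0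

/-- `(x, y)` generates a normal `W(2m+1)`. -/
structure OGen (B : V →ₗ[F] V →ₗ[F] F) (N S : Module.End F V) (c : F) (m : ℕ) (e : Bool) (x y : V) :
    Prop where
  capx : (S ^ m) (N x) = 0
  capy : (S ^ m) (N y) = 0
  flag : e = true → 1 ≤ m
  phix : ∀ i, chi B N S x x i = if i + 1 = m ∧ e then 1 else 0
  phiy : ∀ i, chi B N S y y i = if i + 1 = m ∧ e then c else 0
  psixy : ∀ i, psi B S x y i = if i = m then 1 else 0
  chixy : ∀ i, chi B N S x y i = 0

variable [CharP F 2] {B : V →ₗ[F] V →ₗ[F] F} {N S : Module.End F V} (h : UPair B N S) {c : F}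

include h in
/-- With top pairing `1` and a standard second level the generator can be made normal. -/
theorem vgen_of_levels {x : V} {m : ℕ} {e : Bool} (hm : 1 ≤ m) (hx : (S ^ m) x = 0)
    (he : e = true → 2 ≤ m) (h1 : chi B N S x x (m - 1) = 1)
    (h2 : 2 ≤ m → chi B N S x x (m - 2) = if e then c else 0) : ∃ z, VGen B N S c m e z := by
  suffices key : ∀ d, ∃ z, (S ^ m) z = 0 ∧ ∀ i, m ≤ i + d + 2 →
      chi B N S z z i = if i + 1 = m then 1 else if i + 2 = m ∧ e then c else 0 by
    obtain ⟨z, hz, hz'⟩ := key m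
    exact ⟨z, hm, hz, he, fun i => hz' i (by omega)⟩
  intro d
  induction d with
  | zero =>
    refine ⟨x, hx, fun i hi => ?_⟩
    rcases Nat.lt_or_ge i m with hlt | hge
    · rcases (show i + 1 = m ∨ i + 2 = m by omega) with rfl | rfl
      · simpa using h1
      · simpa using h2 (by omega)
    · rw [h.chi_eq_zero (h.cap_N hx) hge, if_neg (by omega), if_neg (by omega)]
  | succ d ih =>
    obtain ⟨z, hz, hz'⟩ := ih
    rcases Nat.lt_or_ge m (d + 3) with hd | hd
    · exact ⟨z, hz, fun i _ => hz' i (by omega)⟩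
    refine ⟨z + chi B N S z z (m - 3 - d) • (S ^ (d + 1)) (N z), h.cap_step _ hz (h.cap_N hz),
      fun i hi => ?_⟩
    rw [h.chi_self_stepN]
    rcases Nat.lt_or_ge i (m - 2 - d) with hlt | hge
    · obtain rfl : i = m - 3 - d := by omega
      rw [show m - 3 - d + (d + 1) + 1 = m - 1 by omega, hz' (m - 1) (by omega),
        if_pos (show m - 1 + 1 = m by omega),
        h.chi_eq_zero (h.cap_N hz) (show m ≤ m - 3 - d + 2 * (d + 1) + 1 by omega),
        if_neg (by omega), if_neg (by omega)]
      linear_combination CharTwo.two_eq_zero (R := F) * chi B N S z z (m - 3 - d)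
    · rw [h.chi_eq_zero (h.cap_N hz) (show m ≤ i + (d + 1) + 1 by omega),
        h.chi_eq_zero (h.cap_N hz) (show m ≤ i + 2 * (d + 1) + 1 by omega), hz' i (by omega)]
      ring

include h in
/-- An alternating top pair of even length can be made normal. -/
theorem egen_of_top {x y : V} {m : ℕ} (hm : 1 ≤ m) (hx : (S ^ m) x = 0) (hy : (S ^ m) y = 0)
    (hxx : chi B N S x x (m - 1) = 0) (hyy : chi B N S y y (m - 1) = 0)
    (hxy : chi B N S x y (m - 1) ≠ 0) : ∃ x' y', EGen B N S m x' y' := by
  wlog hone : chi B N S x y (m - 1) = 1 generalizing y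
  · refine this (y := (chi B N S x y (m - 1))⁻¹ • y) (by rw [map_smul, hy, smul_zero]) ?_ ?_ ?_
    · simp only [chi, map_smul, LinearMap.smul_apply, smul_eq_mul] at hyy ⊢
      rw [hyy, mul_zero, mul_zero]
    · simp only [chi, map_smul, smul_eq_mul] at hxy ⊢
      rw [inv_mul_cancel₀ hxy]; exact one_ne_zero
    · simp only [chi, map_smul, smul_eq_mul] at hxy ⊢
      rw [inv_mul_cancel₀ hxy]
  -- the first vector
  obtain ⟨x, hx, hxx, hone⟩ : ∃ x', (S ^ m) x' = 0 ∧ (∀ i, chi B N S x' x' i = 0) ∧
      chi B N S x' y (m - 1) = 1 := by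
    suffices key : ∀ d, ∃ x', (S ^ m) x' = 0 ∧ chi B N S x' y (m - 1) = 1 ∧
        ∀ i, m ≤ i + d + 1 → chi B N S x' x' i = 0 by
      obtain ⟨z, hz, h1, hz'⟩ := key m
      exact ⟨z, hz, fun i => hz' i (by omega), h1⟩
    intro d
    induction d with
    | zero =>
      refine ⟨x, hx, hone, fun i hi => ?_⟩
      rcases Nat.lt_or_ge i m with hlt | hge
      · obtain rfl : i = m - 1 := by omega
        exact hxx
      · exact h.chi_eq_zero (h.cap_N hx) hge
    | succ d ih =>
      obtain ⟨z, hz, h1, hz'⟩ := ih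
      rcases Nat.lt_or_ge m (d + 2) with hd | hd
      · exact ⟨z, hz, h1, fun i _ => hz' i (by omega)⟩
      refine ⟨z + chi B N S z z (m - 2 - d) • (S ^ d) (N y), h.cap_step _ hz (h.cap_N hy), ?_,
        fun i hi => ?_⟩
      · rw [h.chi_step_left, h.chi_N_left, h.psi_self, mul_zero, add_zero, h1]
      rw [h.chi_self_stepN]
      have hq : ∀ j, m - 1 ≤ j → chi B N S y y j = 0 := fun j hj => by
        rcases Nat.eq_or_lt_of_le hj with rfl | hj'
        · exact hyy
        · exact h.chi_eq_zero (h.cap_N hy) (by omega)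
      rw [hq (i + 2 * d + 1) (by omega)]
      rcases Nat.lt_or_ge i (m - 1 - d) with hlt | hge
      · obtain rfl : i = m - 2 - d := by omega
        rw [show m - 2 - d + d + 1 = m - 1 by omega, h1]
        linear_combination CharTwo.two_eq_zero (R := F) * chi B N S z z (m - 2 - d)
      · rw [h.chi_eq_zero (h.cap_N hy) (show m ≤ i + d + 1 by omega), hz' i (by omega)]
        ring
  -- the cross pairings
  obtain ⟨y, hy, hyy, hone, hpsi, hchi⟩ : ∃ y', (S ^ m) y' = 0 ∧ chi B N S y' y' (m - 1) = 0 ∧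
      chi B N S x y' (m - 1) = 1 ∧
      (∀ i, psi B S x y' i = 0) ∧ ∀ i, chi B N S x y' i = if i + 1 = m then 1 else 0 := by
    suffices key : ∀ t, ∃ y', (S ^ m) y' = 0 ∧ chi B N S y' y' (m - 1) = 0 ∧
        (∀ i, m ≤ i + t → psi B S x y' i = 0) ∧
        ∀ i, m ≤ i + (t + 1) → chi B N S x y' i = if i + 1 = m then 1 else 0 by
      obtain ⟨y', h1, h0, h2, h3⟩ := key m
      exact ⟨y', h1, h0, by rw [h3 _ (by omega), if_pos (by omega)],
        fun i => h2 i (by omega), fun i => h3 i (by omega)⟩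
    intro t
    induction t with
    | zero =>
      refine ⟨y, hy, hyy, fun i hi => h.psi_eq_zero hy (by omega), fun i hi => ?_⟩
      rcases Nat.lt_or_ge i m with hlt | hge
      · obtain rfl : i = m - 1 := by omega
        rw [if_pos (by omega), hone]
      · rw [h.chi_eq_zero (h.cap_N hy) hge, if_neg (by omega)]
    | succ t ih =>
      obtain ⟨z, hz, hzz, hp, hc⟩ := ih
      rcases Nat.lt_or_ge m (t + 1) with hd | hd
      · exact ⟨z, hz, hzz, fun i _ => hp i (by omega), fun i _ => hc i (by omega)⟩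
      -- `psi` at `m - 1 - t`
      set z1 := z + psi B S x z (m - 1 - t) • (S ^ t) (N z) with hz1
      have hcapz1 : (S ^ m) z1 = 0 := h.cap_step _ hz (h.cap_N hz)
      have hzz1 : chi B N S z1 z1 (m - 1) = 0 := by
        rw [hz1, h.chi_self_stepN, h.chi_eq_zero (h.cap_N hz) (show m ≤ m - 1 + t + 1 by omega),
          h.chi_eq_zero (h.cap_N hz) (show m ≤ m - 1 + 2 * t + 1 by omega), hzz]
        ring
      have hp1 : ∀ i, m ≤ i + (t + 1) → psi B S x z1 i = 0 := fun i hi => by
        rw [hz1, h.psi_step_right, h.psi_N_right]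
        rcases Nat.lt_or_ge i (m - t) with hlt | hge
        · obtain rfl : i = m - 1 - t := by omega
          rw [show m - 1 - t + t = m - 1 by omega, hc (m - 1) (by omega), if_pos (by omega)]
          linear_combination CharTwo.two_eq_zero (R := F) * psi B S x z (m - 1 - t)
        · rw [hp i (by omega), h.chi_eq_zero (h.cap_N hz) (show m ≤ i + t by omega)]
          ring
      have hc1 : ∀ i, m ≤ i + (t + 1) → chi B N S x z1 i = if i + 1 = m then 1 else 0 := fun i hi => by
        rw [hz1, h.chi_step_right, h.chi_N_right, h.psi_eq_zero hz (show m ≤ i + t + 1 by omega),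
          h.chi_eq_zero (h.cap_N hz) (show m ≤ i + t + 1 by omega), hc i hi]
        ring
      -- `chi` at `m - 2 - t`
      rcases Nat.lt_or_ge m (t + 2) with hd2 | hd2
      · exact ⟨z1, hcapz1, hzz1, hp1, fun i _ => hc1 i (by omega)⟩
      refine ⟨z1 + chi B N S x z1 (m - 2 - t) • (S ^ (t + 1)) z1, h.cap_step _ hcapz1 hcapz1, ?_,
        fun i hi => ?_, fun i hi => ?_⟩
      · rw [h.chi_self_step, h.psi_self,
          h.chi_eq_zero (h.cap_N hcapz1) (show m ≤ m - 1 + 2 * (t + 1) by omega), hzz1]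
        ring
      · rw [h.psi_step_right, hp1 i hi, h.psi_eq_zero hcapz1 (show m ≤ i + (t + 1) by omega)]
        ring
      · rw [h.chi_step_right]
        rcases Nat.lt_or_ge i (m - 1 - t) with hlt | hge
        · obtain rfl : i = m - 2 - t := by omega
          rw [show m - 2 - t + (t + 1) = m - 1 by omega, hc1 (m - 1) (by omega),
            if_pos (show m - 1 + 1 = m by omega), if_neg (by omega)]
          linear_combination CharTwo.two_eq_zero (R := F) * chi B N S x z1 (m - 2 - t)
        · rw [hc1 i (by omega), h.chi_eq_zero (h.cap_N hcapz1) (show m ≤ i + (t + 1) by omega)]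
          ring
  -- the second vector
  have hxx' : ∀ i, psi B S x x i = 0 := h.psi_self x
  suffices hex : ∃ y', EGen B N S m x y' from ⟨x, hex⟩
  suffices key : ∀ d, ∃ y', (S ^ m) y' = 0 ∧ (∀ i, psi B S x y' i = 0) ∧
      (∀ i, chi B N S x y' i = if i + 1 = m then 1 else 0) ∧
      ∀ i, m ≤ i + d + 1 → chi B N S y' y' i = 0 by
    obtain ⟨z, hz, h1, h2, hz'⟩ := key m
    exact ⟨z, hm, hx, hz, hxx, fun i => hz' i (by omega), h1, h2⟩
  intro d
  induction d with
  | zero =>
    refine ⟨y, hy, hpsi, hchi, fun i hi => ?_⟩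
    rcases Nat.lt_or_ge i m with hlt | hge
    · obtain rfl : i = m - 1 := by omega
      exact hyy
    · exact h.chi_eq_zero (h.cap_N hy) hge
  | succ d ih =>
    obtain ⟨z, hz, h1, h2, hz'⟩ := ih
    rcases Nat.lt_or_ge m (d + 2) with hd | hd
    · exact ⟨z, hz, h1, h2, fun i _ => hz' i (by omega)⟩
    refine ⟨z + chi B N S z z (m - 2 - d) • (S ^ d) (N x), h.cap_step _ hz (h.cap_N hx),
      fun i => ?_, fun i => ?_, fun i hi => ?_⟩
    · rw [h.psi_step_right, h.psi_N_right, hxx, mul_zero, add_zero, h1]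
    · rw [h.chi_step_right, h.chi_N_right, hxx, hxx', add_zero, mul_zero, add_zero, h2]
    rw [h.chi_self_stepN, hxx, h.chi_comm x z, h1, h2]
    rcases Nat.lt_or_ge i (m - 1 - d) with hlt | hge
    · obtain rfl : i = m - 2 - d := by omega
      rw [if_pos (show m - 2 - d + d + 1 + 1 = m by omega)]
      linear_combination CharTwo.two_eq_zero (R := F) * chi B N S z z (m - 2 - d)
    · rw [if_neg (show ¬ i + d + 1 + 1 = m by omega), hz' i (by omega)]
      ring

include h in
/-- A top pair of odd length with standard second level can be made normal. -/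
theorem ogen_of_top {x y : V} {m : ℕ} {e : Bool} (he : e = true → 1 ≤ m) (hx : (S ^ m) (N x) = 0)
    (hy : (S ^ m) (N y) = 0) (hxy : psi B S x y m = 1)
    (hxx : ∀ i, i + 1 = m → chi B N S x x i = if e then 1 else 0)
    (hyy : ∀ i, i + 1 = m → chi B N S y y i = if e then c else 0) :
    ∃ x' y', OGen B N S c m e x' y' := by
  have htop : ∀ {z : V} {v : F}, (S ^ m) (N z) = 0 →
      (∀ i, i + 1 = m → chi B N S z z i = if e then v else 0) →
      ∀ i, m ≤ i + 1 → chi B N S z z i = if i + 1 = m ∧ e then v else 0 := fun hz hzz i hi => by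
    rcases Nat.lt_or_ge i m with hlt | hge
    · rw [hzz i (by omega)]
      simp [show i + 1 = m by omega]
    · rw [h.chi_eq_zero hz hge, if_neg (by omega)]
  -- the first vector
  obtain ⟨x, hx, hxy, hxx⟩ : ∃ x', (S ^ m) (N x') = 0 ∧ psi B S x' y m = 1 ∧
      ∀ i, chi B N S x' x' i = if i + 1 = m ∧ e then 1 else 0 := by
    suffices key : ∀ d, ∃ x', (S ^ m) (N x') = 0 ∧ psi B S x' y m = 1 ∧
        ∀ i, m ≤ i + d + 1 → chi B N S x' x' i = if i + 1 = m ∧ e then 1 else 0 by
      obtain ⟨z, h1, h2, h3⟩ := key m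
      exact ⟨z, h1, h2, fun i => h3 i (by omega)⟩
    intro d
    induction d with
    | zero => exact ⟨x, hx, hxy, fun i hi => htop hx hxx i (by omega)⟩
    | succ d ih =>
      obtain ⟨z, hz, h1, hz'⟩ := ih
      rcases Nat.lt_or_ge m (d + 2) with hd | hd
      · exact ⟨z, hz, h1, fun i _ => hz' i (by omega)⟩
      refine ⟨z + chi B N S z z (m - 2 - d) • (S ^ (d + 1)) y, h.capN_step _ hz hy, ?_, fun i hi => ?_⟩
      · rw [h.psi_step_left, h.psi_self, mul_zero, add_zero, h1]
      rw [h.chi_self_step, h.chi_eq_zero hy (show m ≤ i + 2 * (d + 1) by omega)]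
      rcases Nat.lt_or_ge i (m - 1 - d) with hlt | hge
      · obtain rfl : i = m - 2 - d := by omega
        rw [show m - 2 - d + (d + 1) + 1 = m by omega, h1, if_neg (by omega)]
        linear_combination CharTwo.two_eq_zero (R := F) * chi B N S z z (m - 2 - d)
      · rw [h.psi_eq_zero (h.cap_succ hy) (show m + 1 ≤ i + (d + 1) + 1 by omega), hz' i (by omega)]
        ring
  -- the second vector
  suffices key : ∀ t, ∃ y', (S ^ m) (N y') = 0 ∧
      (∀ i, m ≤ i + t + 1 → chi B N S y' y' i = if i + 1 = m ∧ e then c else 0) ∧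
      (∀ i, m ≤ i + t → psi B S x y' i = if i = m then 1 else 0) ∧
      ∀ i, m ≤ i + t → chi B N S x y' i = 0 by
    obtain ⟨z, h1, h2, h3, h4⟩ := key m
    exact ⟨x, z, hx, h1, he, hxx, fun i => h2 i (by omega), fun i => h3 i (by omega),
      fun i => h4 i (by omega)⟩
  intro t
  induction t with
  | zero =>
    refine ⟨y, hy, fun i hi => htop hy hyy i (by omega), fun i hi => ?_,
      fun i hi => h.chi_eq_zero hy (by omega)⟩
    rcases Nat.eq_or_lt_of_le (show m ≤ i by omega) with rfl | hlt
    · rw [if_pos rfl, hxy]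
    · rw [h.psi_eq_zero (h.cap_succ hy) hlt, if_neg (by omega)]
  | succ t ih =>
    obtain ⟨z, hz, hzz, hp, hc⟩ := ih
    rcases Nat.lt_or_ge m (t + 1) with hd | hd
    · exact ⟨z, hz, fun i _ => hzz i (by omega), fun i _ => hp i (by omega), fun i _ => hc i (by omega)⟩
    -- `chi` at `m - 1 - t`
    have hzs := h.cap_succ hz
    set z1 := z + chi B N S x z (m - 1 - t) • (S ^ t) (N z) with hz1
    have hNN : (S ^ m) (N (N z)) = 0 := by rw [← h.pow_comm, hz, map_zero]
    have hcap1 : (S ^ m) (N z1) = 0 := h.capN_step _ hz hNN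
    have hzz1 : ∀ i, m ≤ i + t + 1 → chi B N S z1 z1 i = if i + 1 = m ∧ e then c else 0 := fun i hi => by
      rw [hz1, h.chi_self_stepN, h.chi_eq_zero hz (show m ≤ i + t + 1 by omega),
        h.chi_eq_zero hz (show m ≤ i + 2 * t + 1 by omega), hzz i hi]
      ring
    have hp1 : ∀ i, m ≤ i + t → psi B S x z1 i = if i = m then 1 else 0 := fun i hi => by
      rw [hz1, h.psi_step_right, h.psi_N_right, h.chi_eq_zero hz (show m ≤ i + t by omega), hp i hi]
      ring
    have hc1 : ∀ i, m ≤ i + (t + 1) → chi B N S x z1 i = 0 := fun i hi => by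
      rw [hz1, h.chi_step_right, h.chi_N_right, h.chi_eq_zero hz (show m ≤ i + t + 1 by omega)]
      rcases Nat.lt_or_ge i (m - t) with hlt | hge
      · obtain rfl : i = m - 1 - t := by omega
        rw [show m - 1 - t + t + 1 = m by omega, hp m (by omega), if_pos rfl]
        linear_combination CharTwo.two_eq_zero (R := F) * chi B N S x z (m - 1 - t)
      · rw [h.psi_eq_zero hzs (show m + 1 ≤ i + t + 1 by omega), hc i (by omega)]
        ring
    -- the form of the second vector at `m - 2 - t`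
    obtain ⟨z2, hcap2, hzz2, hp2, hc2⟩ : ∃ z2, (S ^ m) (N z2) = 0 ∧
        (∀ i, m ≤ i + t + 2 → chi B N S z2 z2 i = if i + 1 = m ∧ e then c else 0) ∧
        (∀ i, m ≤ i + t → psi B S x z2 i = if i = m then 1 else 0) ∧
        ∀ i, m ≤ i + (t + 1) → chi B N S x z2 i = 0 := by
      rcases Nat.lt_or_ge m (t + 2) with hd2 | hd2
      · exact ⟨z1, hcap1, fun i _ => hzz1 i (by omega), hp1, hc1⟩
      refine ⟨z1 + chi B N S z1 z1 (m - 2 - t) • (S ^ (t + 1)) x, h.capN_step _ hcap1 hx,
        fun i hi => ?_, fun i hi => ?_, fun i hi => ?_⟩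
      · rw [h.chi_self_step, h.chi_eq_zero hx (show m ≤ i + 2 * (t + 1) by omega), h.psi_comm x z1]
        rcases Nat.lt_or_ge i (m - 1 - t) with hlt | hge
        · obtain rfl : i = m - 2 - t := by omega
          rw [show m - 2 - t + (t + 1) + 1 = m by omega, hp1 m (by omega), if_pos rfl,
            if_neg (by omega)]
          linear_combination CharTwo.two_eq_zero (R := F) * chi B N S z1 z1 (m - 2 - t)
        · rw [hp1 _ (by omega), if_neg (show ¬ i + (t + 1) + 1 = m by omega), hzz1 i (by omega)]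
          ring
      · rw [h.psi_step_right, h.psi_self, mul_zero, add_zero, hp1 i hi]
      · rw [h.chi_step_right, h.chi_eq_zero hx (show m ≤ i + (t + 1) by omega), hc1 i hi]
        ring
    -- `psi` at `m - 1 - t`
    refine ⟨z2 + psi B S x z2 (m - 1 - t) • (S ^ (t + 1)) z2, h.capN_step _ hcap2 hcap2,
      fun i hi => ?_, fun i hi => ?_, fun i hi => ?_⟩
    · rw [h.chi_self_step, h.psi_self, h.chi_eq_zero hcap2 (show m ≤ i + 2 * (t + 1) by omega),
        hzz2 i (by omega)]
      ring
    · rw [h.psi_step_right]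
      rcases Nat.lt_or_ge i (m - t) with hlt | hge
      · obtain rfl : i = m - 1 - t := by omega
        rw [show m - 1 - t + (t + 1) = m by omega, hp2 m (by omega), if_pos rfl,
          if_neg (by omega)]
        linear_combination CharTwo.two_eq_zero (R := F) * psi B S x z2 (m - 1 - t)
      · rw [h.psi_eq_zero (h.cap_succ hcap2) (show m + 1 ≤ i + (t + 1) by omega), hp2 i (by omega)]
        ring
    · rw [h.chi_step_right, h.chi_eq_zero hcap2 (show m ≤ i + (t + 1) by omega), hc2 i hi]
      ring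

end CfsgLib.SpEven
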