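import Mathlib

/-!
A nilpotent map `N` and a self-adjoint map `S` attached to a unipotent isometry of an alternating
form in characteristic two, and the three families of pairings that determine the isometry type.
-/

set_option autoImplicit false
set_option linter.unusedSectionVars false

namespace CfsgLib.SpEven

variable {F V : Type*} [Field F] [AddCommGroup V] [Module F V]

/-- The properties used of `N = G - 1` and `S = G⁻¹ N ^ 2`. -/
structure UPair (B : V →ₗ[F] V →ₗ[F] F) (N S : Module.End F V) : Prop where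
  alt : ∀ v, B v v = 0
  nondeg : ∀ v, (∀ w, B v w = 0) → v = 0
  adjS : ∀ x y, B (S x) y = B x (S y)
  adjN : ∀ x y, B (N x) y = B x (N y) + B x (S y)
  sq : ∀ x, N (N x) = S x + S (N x)
  comm : ∀ x, N (S x) = S (N x)
  nil : IsNilpotent N

/-- The pairing at `S ^ i`. -/
def psi (B : V →ₗ[F] V →ₗ[F] F) (S : Module.End F V) (x y : V) (i : ℕ) : F := B x ((S ^ i) y)

/-- The pairing at `S ^ i * N`. -/
def chi (B : V →ₗ[F] V →ₗ[F] F) (N S : Module.End F V) (x y : V) (i : ℕ) : F :=
  B x ((S ^ i) (N y))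

variable [CharP F 2] {B : V →ₗ[F] V →ₗ[F] F} {N S : Module.End F V}

namespace UPair

variable (h : UPair B N S)
include h

theorem symm (x y : V) : B x y = B y x := by
  have := h.alt (x + y)
  simp only [map_add, LinearMap.add_apply, h.alt, zero_add, add_zero] at this
  exact (CharTwo.add_eq_zero.1 this).symm

theorem pow_adj (i : ℕ) : ∀ x y, B ((S ^ i) x) y = B x ((S ^ i) y) := by
  induction i with
  | zero => intro x y; simp
  | succ i ih =>
    intro x y
    rw [pow_succ', Module.End.mul_apply, h.adjS, ih, ← Module.End.mul_apply, ← pow_succ, pow_succ']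

theorem pow_comm (i : ℕ) (x : V) : N ((S ^ i) x) = (S ^ i) (N x) := by
  induction i with
  | zero => simp
  | succ i ih => rw [pow_succ', Module.End.mul_apply, h.comm, ih, Module.End.mul_apply]

theorem psi_self (x : V) (i : ℕ) : psi B S x x i = 0 := by
  have hS : ∀ a, B a (S a) = 0 := fun a => by
    have := h.adjN a a
    rw [h.symm (N a) a] at this
    simpa using this
  obtain ⟨j, rfl | rfl⟩ : ∃ j, i = j + j ∨ i = j + (1 + j) := ⟨i / 2, by omega⟩
  · rw [psi, pow_add, Module.End.mul_apply, ← h.pow_adj, h.alt]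
  · rw [psi, pow_add, Module.End.mul_apply, ← h.pow_adj, pow_add, pow_one, Module.End.mul_apply, hS]

theorem psi_comm (x y : V) (i : ℕ) : psi B S y x i = psi B S x y i := by
  rw [psi, ← h.pow_adj, h.symm]; rfl

theorem chi_comm (x y : V) (i : ℕ) :
    chi B N S y x i = chi B N S x y i + psi B S x y (i + 1) := by
  rw [chi, ← h.pow_adj, h.symm, h.adjN, psi, pow_succ', Module.End.mul_apply, h.pow_comm]; rfl

theorem psi_pow_right (x y : V) (i j : ℕ) : psi B S x ((S ^ j) y) i = psi B S x y (i + j) := by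
  rw [psi, psi, pow_add, Module.End.mul_apply]

theorem chi_pow_right (x y : V) (i j : ℕ) : chi B N S x ((S ^ j) y) i = chi B N S x y (i + j) := by
  rw [chi, chi, pow_add, Module.End.mul_apply, h.pow_comm]

theorem psi_pow_left (x y : V) (i j : ℕ) : psi B S ((S ^ j) x) y i = psi B S x y (i + j) := by
  rw [psi, h.pow_adj, psi, ← Module.End.mul_apply, ← pow_add, add_comm j]

theorem chi_pow_left (x y : V) (i j : ℕ) : chi B N S ((S ^ j) x) y i = chi B N S x y (i + j) := by
  rw [chi, h.pow_adj, chi, ← Module.End.mul_apply, ← pow_add, add_comm j]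

theorem psi_N_right (x y : V) (i : ℕ) : psi B S x (N y) i = chi B N S x y i := rfl

theorem chi_N_right (x y : V) (i : ℕ) :
    chi B N S x (N y) i = psi B S x y (i + 1) + chi B N S x y (i + 1) := by
  rw [chi, h.sq, map_add, map_add, psi, chi, pow_succ, Module.End.mul_apply, Module.End.mul_apply]

theorem psi_N_left (x y : V) (i : ℕ) : psi B S (N x) y i = chi B N S y x i := by
  rw [h.psi_comm, h.psi_N_right]

theorem chi_N_left (x y : V) (i : ℕ) : chi B N S (N x) y i = psi B S x y (i + 1) := by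
  rw [chi, h.adjN, h.pow_comm, h.sq, map_add, map_add, ← Module.End.mul_apply, ← pow_succ,
    ← Module.End.mul_apply, ← pow_succ, psi, show S ((S ^ i) (N y)) = (S ^ (i + 1)) (N y) by
      rw [pow_succ', Module.End.mul_apply], add_assoc, CharTwo.add_self_eq_zero, add_zero]

theorem chi_add_self (x y : V) (i : ℕ) :
    chi B N S (x + y) (x + y) i = chi B N S x x i + chi B N S y y i + psi B S x y (i + 1) := by
  have := h.chi_comm x y i
  simp only [chi, map_add, LinearMap.add_apply] at this ⊢
  rw [this]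
  linear_combination CharTwo.two_eq_zero (R := F) * B x ((S ^ i) (N y))

theorem chi_self_step (x y : V) (γ : F) (i j : ℕ) :
    chi B N S (x + γ • (S ^ j) y) (x + γ • (S ^ j) y) i =
      chi B N S x x i + γ * psi B S x y (i + j + 1) + γ * γ * chi B N S y y (i + 2 * j) := by
  rw [h.chi_add_self, show chi B N S (γ • (S ^ j) y) (γ • (S ^ j) y) i =
      γ * γ * chi B N S ((S ^ j) y) ((S ^ j) y) i by simp [chi, mul_assoc],
    show psi B S x (γ • (S ^ j) y) (i + 1) = γ * psi B S x ((S ^ j) y) (i + 1) by simp [psi],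
    h.psi_pow_right, h.chi_pow_left, h.chi_pow_right, show i + 1 + j = i + j + 1 by omega,
    show i + j + j = i + 2 * j by omega]
  ring

theorem chi_self_stepN (x y : V) (γ : F) (i j : ℕ) :
    chi B N S (x + γ • (S ^ j) (N y)) (x + γ • (S ^ j) (N y)) i =
      chi B N S x x i + γ * chi B N S x y (i + j + 1) + γ * γ * chi B N S y y (i + 2 * j + 1) := by
  rw [h.chi_self_step, h.psi_N_right, h.chi_N_left, h.psi_N_right]

omit [CharP F 2] in
theorem psi_step_right (x y z : V) (γ : F) (i j : ℕ) :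
    psi B S x (y + γ • (S ^ j) z) i = psi B S x y i + γ * psi B S x z (i + j) := by
  simp [psi, pow_add]

theorem chi_step_right (x y z : V) (γ : F) (i j : ℕ) :
    chi B N S x (y + γ • (S ^ j) z) i = chi B N S x y i + γ * chi B N S x z (i + j) := by
  rw [← h.chi_pow_right]; simp [chi]

theorem psi_step_left (x y z : V) (γ : F) (i j : ℕ) :
    psi B S (x + γ • (S ^ j) z) y i = psi B S x y i + γ * psi B S z y (i + j) := by
  rw [← h.psi_pow_left]; simp [psi]

theorem chi_step_left (x y z : V) (γ : F) (i j : ℕ) :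
    chi B N S (x + γ • (S ^ j) z) y i = chi B N S x y i + γ * chi B N S z y (i + j) := by
  rw [← h.chi_pow_left]; simp [chi]

theorem pow_eq_zero_of_le {y : V} {m i : ℕ} (hy : (S ^ m) y = 0) (hi : m ≤ i) : (S ^ i) y = 0 := by
  rw [← Nat.sub_add_cancel hi, pow_add, Module.End.mul_apply, hy, map_zero]

theorem psi_eq_zero {x y : V} {m i : ℕ} (hy : (S ^ m) y = 0) (hi : m ≤ i) : psi B S x y i = 0 := by
  rw [psi, h.pow_eq_zero_of_le hy hi, map_zero]

theorem chi_eq_zero {x y : V} {m i : ℕ} (hy : (S ^ m) (N y) = 0) (hi : m ≤ i) :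
    chi B N S x y i = 0 := by
  rw [chi, h.pow_eq_zero_of_le hy hi, map_zero]

theorem cap_N {y : V} {m : ℕ} (hy : (S ^ m) y = 0) : (S ^ m) (N y) = 0 := by
  rw [← h.pow_comm, hy, map_zero]

theorem cap_succ {y : V} {m : ℕ} (hy : (S ^ m) (N y) = 0) : (S ^ (m + 1)) y = 0 := by
  have := congrArg N hy
  rw [h.pow_comm, h.sq, map_add, map_zero, ← Module.End.mul_apply, ← Module.End.mul_apply,
    ← pow_succ, h.pow_eq_zero_of_le hy (Nat.le_succ m), add_zero] at this
  exact this

theorem cap_step {x z : V} {m j : ℕ} (γ : F) (hx : (S ^ m) x = 0) (hz : (S ^ m) z = 0) :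
    (S ^ m) (x + γ • (S ^ j) z) = 0 := by
  rw [map_add, map_smul, hx, ← Module.End.mul_apply, ← pow_add, h.pow_eq_zero_of_le hz (by omega)]
  simp

theorem capN_step {x z : V} {m j : ℕ} (γ : F) (hx : (S ^ m) (N x) = 0) (hz : (S ^ m) (N z) = 0) :
    (S ^ m) (N (x + γ • (S ^ j) z)) = 0 := by
  rw [map_add, map_smul, h.pow_comm, map_add, map_smul, hx, ← Module.End.mul_apply, ← pow_add,
    h.pow_eq_zero_of_le hz (by omega)]
  simp

theorem pow_N_eq (i : ℕ) (a : V) : (N ^ (2 * i)) a = ((1 + N) ^ i) ((S ^ i) a) := by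
  induction i with
  | zero => simp
  | succ i ih =>
    have hc : ∀ b, N ((((1 : Module.End F V) + N) ^ i) b) = (((1 : Module.End F V) + N) ^ i) (N b) :=
      fun b => LinearMap.congr_fun (((Commute.one_right N).add_right (Commute.refl N)).pow_right i).eq b
    rw [show 2 * (i + 1) = 1 + (1 + 2 * i) by ring, pow_add, pow_add, pow_one, Module.End.mul_apply,
      Module.End.mul_apply, ih, hc, hc, h.sq, map_add, pow_succ, Module.End.mul_apply,
      ← h.comm, LinearMap.add_apply, Module.End.one_apply, pow_succ', Module.End.mul_apply, map_add]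

theorem one_add_pow_injective (i : ℕ) : Function.Injective ((1 + N : Module.End F V) ^ i) := by
  have hu : IsUnit ((1 + N) ^ i) := (h.nil.isUnit_one_add).pow i
  exact ((Module.End.isUnit_iff _).1 hu).injective

theorem pow_two_mul_eq_zero_iff (i : ℕ) (a : V) : (N ^ (2 * i)) a = 0 ↔ (S ^ i) a = 0 := by
  rw [h.pow_N_eq, (injective_iff_map_eq_zero' _).1 (h.one_add_pow_injective i)]

theorem pow_odd_eq_zero_iff (i : ℕ) (a : V) : (N ^ (2 * i + 1)) a = 0 ↔ (S ^ i) (N a) = 0 := by
  rw [pow_succ, Module.End.mul_apply, h.pow_two_mul_eq_zero_iff]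

theorem cap_all : ∃ K, ∀ a, (S ^ K) a = 0 := by
  obtain ⟨K, hK⟩ := h.nil
  refine ⟨K, fun a => (h.pow_two_mul_eq_zero_iff K a).1 ?_⟩
  rw [two_mul, pow_add, hK, zero_mul, LinearMap.zero_apply]

end UPair

end CfsgLib.SpEven
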